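import Cfsg.Agent.Lib.RootSub.McLaughlin.RootSys

/-!
The class of a centre in a root system together with `0` is a subspace, paired non-degenerately
with the space of its axes.
-/

namespace Cfsg.Agent.Lib.RootSub.McLaughlin

open Module

variable {k V V' : Type*} [Field k] [AddCommGroup V] [Module k V] [AddCommGroup V'] [Module k V']
variable {B : V →ₗ[k] V' →ₗ[k] k} {R : V → V' → Prop}

namespace RootSys

variable (h : RootSys B R)
include h

theorem cen_conj {a : V} {θ : V'} (hr : R a θ) {v : V} (hv : Cen R v) :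
    Cen R (v + B v θ • a) := by
  obtain ⟨hv0, φ, hφ0, hφ⟩ := hv
  refine ⟨fun e => hv0 ?_, φ - B a φ • θ, fun e => hφ0 ?_, h.conj hr hφ⟩
  · have h1 := congrArg (fun z => B z θ) e
    simp [h.pair_zero hr] at h1
    simpa [h1] using e
  · have h1 := congrArg (B a) e
    simp [h.pair_zero hr] at h1
    simpa [h1] using e

theorem adj_conj {a : V} {θ : V'} (hr : R a θ) {v w : V} (hvw : Adj B R v w) :
    Adj B R (v + B v θ • a) (w + B w θ • a) := by
  obtain ⟨hv, hw, φ, hφ, hne⟩ := hvw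
  refine ⟨h.cen_conj hr hv, h.cen_conj hr hw, φ - B a φ • θ, h.conj hr hφ, ?_⟩
  simp only [map_sub, map_add, map_smul, LinearMap.add_apply, LinearMap.smul_apply, smul_eq_mul,
    h.pair_zero hr]
  rwa [show B w φ + B w θ * B a φ - B a φ * (B w θ + B w θ * 0) = B w φ by ring]

theorem linked_conj {a : V} {θ : V'} (hr : R a θ) {v w : V} (hvw : Linked B R v w) :
    Linked B R (v + B v θ • a) (w + B w θ • a) := by
  rcases hvw with h1 | ⟨u, h1, h2⟩
  · exact Or.inl (h.adj_conj hr h1)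
  · exact Or.inr ⟨_, h.adj_conj hr h1, h.adj_conj hr h2⟩

theorem linked_of_common_axis {z z' : V} {ζ : V'} (hz : R z ζ) (hz' : R z' ζ) (h0 : z ≠ 0)
    (h0' : z' ≠ 0) (hζ : ζ ≠ 0) [FiniteDimensional k V'] : Linked B R z z' := by
  obtain ⟨u, χ, hu, h1, h2⟩ := h.opp hz h0 hζ
  have hcu : Cen R u := cen_of_apply hu h1 h2
  exact Or.inr ⟨u, ⟨⟨h0, ζ, hζ, hz⟩, hcu, ζ, hz, h1⟩,
    h.adj_symm ⟨⟨h0', ζ, hζ, hz'⟩, hcu, ζ, hz', h1⟩⟩

variable [FiniteDimensional k V']

/-- Two centres scaled against each other inside a line joining adjacent centres. -/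
theorem linked_scale {v y w : V} {φ η : V'} (hv : R v φ) (hy : R y η) (h1 : B y φ ≠ 0)
    (h2 : B v η ≠ 0) (h3 : B w φ = 0) (h4 : B w η = 0) {α a : k} (ha : a ≠ 0)
    (hl : Linked B R v (α • v + w)) : Linked B R v ((a * α) • v + w) := by
  have s1 := h.smul_right (B v η)⁻¹ hy
  have s2 := h.smul_right ((a - 1) / B y φ) hv
  have s3 := h.smul_right (-(a * B v η)⁻¹) hy
  have e := h.linked_conj s3 (h.linked_conj s2 (h.linked_conj s1 hl))
  simp only [map_add, map_smul, LinearMap.add_apply, LinearMap.smul_apply, smul_eq_mul,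
    h.pair_zero hv, h.pair_zero hy, h3, h4, mul_zero, zero_add, add_zero, smul_add,
    smul_smul] at e
  have e' : Linked B R (a • v) ((a * α) • v + w) := by
    convert e using 1
    · match_scalars <;> field_simp <;> ring
    · match_scalars <;> field_simp <;> ring
  simpa [smul_smul, ha] using h.linked_smul e' (inv_ne_zero ha)

/-- The joining vector of two centres with a common neighbour whose axis does not vanish at it. -/
theorem linked_add_smul_of_axis {v w u : V} (hnvw : ¬ Adj B R v w) (hvu : Adj B R v u)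
    (huw : Adj B R u w) {c : k} (hc : c ≠ 0) {χ : V'} (hχ : R u χ)
    (hne : B (v + c • w) χ ≠ 0) : Linked B R v (v + c • w) := by
  have hz := h.adj_add_smul (h.adj_symm huw) hc
  obtain ⟨hv, hu, φ, hφ, hφu⟩ := hvu
  have hw0 : B w φ = 0 := by
    by_contra hh; exact hnvw ⟨hv, huw.2.1, φ, hφ, hh⟩
  have hq := h.adj_add (v := v) (w := u + c • w) ⟨hv, hz.1.1, φ, hφ, by simpa [hw0] using hφu⟩
  have huq : Adj B R u (v + (u + c • w)) :=
    ⟨hu, hq.1.1, χ, hχ, by simpa [h.pair_zero hχ] using hne⟩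
  have hfin := (h.adj_add_smul huq (c := -1) (by simp)).1
  rw [show v + (u + c • w) + (-1 : k) • u = v + c • w by module] at hfin
  exact Or.inr ⟨u, ⟨hv, hu, φ, hφ, hφu⟩, h.adj_symm hfin⟩

/-- Classes are closed under addition. -/
theorem linked_add (two : (2 : k) ≠ 0) {v w : V} (hvw : Linked B R v w) (hne : v + w ≠ 0) :
    Linked B R v (v + w) := by
  by_cases hadj : Adj B R v w
  · exact Or.inl (h.adj_symm (h.adj_add hadj).1)
  obtain ⟨u, hvu, huw⟩ := hvw.resolve_left hadj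
  by_contra hno
  have hkv : ∀ φ, R v φ → B w φ = 0 := fun φ hφ => by
    by_contra hh; exact hadj ⟨hvu.1, huw.2.1, φ, hφ, hh⟩
  have hkw : ∀ ψ, R w ψ → B v ψ = 0 := fun ψ hψ => by
    by_contra hh; exact hadj (h.adj_symm ⟨huw.2.1, hvu.1, ψ, hψ, hh⟩)
  have key : ∀ y, Adj B R v y → Adj B R y w → ∀ χ, R y χ → B (v + w) χ = 0 := by
    intro y hy1 hy2 χ hχ
    by_contra hh
    have hl := h.linked_add_smul_of_axis hadj hy1 hy2 (one_ne_zero (α := k)) hχ
      (by simpa using hh)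
    exact hno (by simpa using hl)
  obtain ⟨_, _, χ₀, hχ₀, hχv⟩ := h.adj_symm hvu
  set χ := (-(B v χ₀)⁻¹) • χ₀ with hχdef
  have hχ : R u χ := h.smul_right _ hχ₀
  have v3 : B v χ = -1 := by simp [hχdef, inv_mul_cancel₀ hχv]
  have w3 : B w χ = 1 := by
    have := key u hvu huw χ hχ
    simp only [map_add, LinearMap.add_apply, v3] at this
    linear_combination this
  have v2 : Linked B R v (v + (2 : k) • w) :=
    h.linked_add_smul_of_axis hadj hvu huw two hχ
      (by simp [v3, w3]; norm_num)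
  have hA : ∀ y, Adj B R v y → Adj B R y w := by
    intro y hy
    by_contra hh
    obtain ⟨_, _, η, hη, hηv⟩ := h.adj_symm hy
    obtain ⟨_, hyc, φ, hφ, hφy⟩ := hy
    have hηw : B w η = 0 := by
      by_contra hz; exact hh ⟨hyc, huw.2.1, η, hη, hz⟩
    have hl : Linked B R v ((2⁻¹ : k) • v + w) := by
      have := h.linked_symm (h.linked_smul (h.linked_symm v2) (inv_ne_zero two))
      simpa [smul_smul, two] using this
    have := h.linked_scale hφ hη hφy hηv (hkv φ hφ) hηw two hl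
    exact hno (by simpa [two] using this)
  have hB : ∀ y, Adj B R w y → Adj B R y v := by
    intro y hy
    by_contra hh
    obtain ⟨_, _, η, hη, hηw⟩ := h.adj_symm hy
    obtain ⟨_, hyc, ψ, hψ, hψy⟩ := hy
    have hηv : B v η = 0 := by
      by_contra hz; exact hh ⟨hyc, hvu.1, η, hη, hz⟩
    have hlw : Linked B R v w := Or.inr ⟨u, hvu, huw⟩
    have hl : Linked B R w ((2 : k) • w + v) := by
      rw [add_comm]; exact h.linked_trans (h.linked_symm hlw) v2
    have := h.linked_scale hψ hη hψy hηw (hkw ψ hψ) hηv (inv_ne_zero two) hl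
    rw [inv_mul_cancel₀ two, one_smul, add_comm] at this
    exact hno (h.linked_trans hlw this)
  obtain ⟨_, _, φ₀, hφ₀, hφu⟩ := id hvu
  obtain ⟨_, _, ψ₀, hψ₀, hψu⟩ := h.adj_symm huw
  set φ := (B u φ₀)⁻¹ • φ₀ with hφdef
  set ψ := (B u ψ₀)⁻¹ • ψ₀ with hψdef
  have hφ : R v φ := h.smul_right _ hφ₀
  have hψ : R w ψ := h.smul_right _ hψ₀
  have u1 : B u φ = 1 := by simp [hφdef, inv_mul_cancel₀ hφu]
  have u2 : B u ψ = 1 := by simp [hψdef, inv_mul_cancel₀ hψu]
  have u3 : B u χ = 0 := h.pair_zero hχ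
  have v1 : B v φ = 0 := h.pair_zero hφ
  have w2 : B w ψ = 0 := h.pair_zero hψ
  have w1 : B w φ = 0 := hkv φ hφ
  have hv2 : B v ψ = 0 := hkw ψ hψ
  have e1 := h.conj hχ hψ
  rw [w3, u2, one_smul, one_smul] at e1
  have e2 := h.conj hφ e1
  rw [show B (w + u) φ = 1 by simp [w1, u1], show B v (ψ - χ) = 1 by simp [hv2, v3], one_smul,
    one_smul] at e2
  have e3 := h.conj hφ e2
  rw [show B (w + u + v) φ = 1 by simp [w1, u1, v1],
    show B v (ψ - χ - φ) = 1 by simp [hv2, v3, v1], one_smul, one_smul] at e3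
  have e4 := h.conj hχ e3
  rw [show B (w + u + v + v) χ = -1 by simp [w3, u3, v3],
    show B u (ψ - χ - φ - φ) = -1 by simp [u2, u3, u1]] at e4
  have e5 : R (w + (v + v)) (ψ - (φ + φ)) := by
    convert e4 using 1 <;> module
  have hfin : ∀ Δ, R (v + w) Δ → Δ ≠ 0 → (∀ y, B y Δ ≠ 0 → B y φ ≠ 0 ∨ B y ψ ≠ 0) → False := by
    intro Δ hΔ hΔ0 hy
    obtain ⟨y, η, hη, h1, h2⟩ := h.opp hΔ hne hΔ0
    have hcy : Cen R y := cen_of_apply hη h1 h2
    apply h2
    rcases hy y h1 with h5 | h5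
    · exact key y ⟨hvu.1, hcy, φ, hφ, h5⟩ (hA y ⟨hvu.1, hcy, φ, hφ, h5⟩) η hη
    · exact key y (h.adj_symm (hB y ⟨huw.2.1, hcy, ψ, hψ, h5⟩))
        (h.adj_symm ⟨huw.2.1, hcy, ψ, hψ, h5⟩) η hη
  by_cases heq : ψ = φ
  · refine hfin φ (h.add_left hφ (heq ▸ hψ)) (fun e => ?_) fun y hy => Or.inl hy
    simp [e] at u1
  · refine hfin ((ψ - φ) + (ψ - φ)) ?_ ?_ fun y hy => ?_
    · refine h.sum3 hψ e5 (h.smul_right 2 hφ) ?_ ?_ ?_ ?_ ?_ ?_ ?_ fun z ζ => ?_
      all_goals simp [v1, w1, w2, hv2]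
      ring
    · rw [← two_smul k]
      exact smul_ne_zero two (sub_ne_zero.2 heq)
    · by_contra hh
      push Not at hh
      exact hy (by simp [hh.1, hh.2])

/-- The class of a centre, with `0`. -/
def cls (two : (2 : k) ≠ 0) {v : V} (hv : Cen R v) : Submodule k V where
  carrier := {z | z = 0 ∨ Linked B R v z}
  zero_mem' := Or.inl rfl
  add_mem' {a b} ha hb := by
    rcases ha with rfl | ha
    · simpa using hb
    rcases hb with rfl | hb
    · exact Or.inr (by simpa using ha)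
    by_cases he : a + b = 0
    · exact Or.inl he
    exact Or.inr (h.linked_trans ha (h.linked_add two (h.linked_trans (h.linked_symm ha) hb) he))
  smul_mem' c z hz := by
    rcases hz with rfl | hz
    · exact Or.inl (smul_zero c)
    rcases eq_or_ne c 0 with rfl | hc
    · exact Or.inl (zero_smul k z)
    exact Or.inr (h.linked_symm (h.linked_smul (h.linked_symm hz) hc))

theorem mem_cls (two : (2 : k) ≠ 0) {v : V} (hv : Cen R v) {z : V} :
    z ∈ h.cls two hv ↔ z = 0 ∨ Linked B R v z := Iff.rfl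

theorem linked_of_linked_swap {ζ₁ ζ₂ : V'} (hl : Linked B.flip (fun φ v => R v φ) ζ₁ ζ₂)
    {z₁ z₂ : V} (h1 : R z₁ ζ₁) (h2 : R z₂ ζ₂) (n1 : z₁ ≠ 0) (n2 : z₂ ≠ 0) :
    Linked B R z₁ z₂ := by
  have step : ∀ {ξ₁ ξ₂ : V'} {y₁ y₂ : V}, Adj B.flip (fun φ v => R v φ) ξ₁ ξ₂ → R y₁ ξ₁ →
      R y₂ ξ₂ → y₁ ≠ 0 → y₂ ≠ 0 → Linked B R y₁ y₂ := by
    intro ξ₁ ξ₂ y₁ y₂ hadj r1 r2 m1 m2
    obtain ⟨⟨f1, _⟩, ⟨f2, _⟩, z, hz, hne⟩ := hadj
    simp only [LinearMap.flip_apply] at hne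
    have hz0 : z ≠ 0 := fun e => hne (by simp [e])
    exact h.linked_trans (h.linked_of_common_axis r1 hz m1 hz0 f1)
      (h.linked_symm (Or.inl ⟨⟨m2, ξ₂, f2, r2⟩, ⟨hz0, ξ₁, f1, hz⟩, ξ₂, r2, hne⟩))
  rcases hl with h3 | ⟨ζ, h3, h4⟩
  · exact step h3 h1 h2 n1 n2
  · obtain ⟨zm, hzm0, hzm⟩ := h3.2.1.2
    exact h.linked_trans (step h3 h1 hzm n1 hzm0) (step h4 hzm h2 hzm0 n2)

variable [FiniteDimensional k V]

theorem linked_swap_iff {ζ₁ ζ₂ : V'} {z₁ z₂ : V} (h1 : R z₁ ζ₁) (h2 : R z₂ ζ₂) (n1 : z₁ ≠ 0)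
    (n2 : z₂ ≠ 0) (m1 : ζ₁ ≠ 0) (m2 : ζ₂ ≠ 0) :
    Linked B.flip (fun φ v => R v φ) ζ₁ ζ₂ ↔ Linked B R z₁ z₂ := by
  refine ⟨fun hl => h.linked_of_linked_swap hl h1 h2 n1 n2, fun hl => ?_⟩
  exact h.swap.linked_of_linked_swap (by simpa [LinearMap.flip_flip] using hl) h1 h2 m1 m2

end RootSys

end Cfsg.Agent.Lib.RootSub.McLaughlin
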