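import Mathlib

/-!
The special linear group and the symplectic group of a space are generated by their transvections.
-/

namespace Cfsg.Agent.Lib.RootSub.McLaughlin

open Module

variable {k U : Type*} [Field k] [AddCommGroup U] [Module k U] [FiniteDimensional k U]

/-- The vectors fixed by an automorphism. -/
def fixedOf (g : U ≃ₗ[k] U) : Submodule k U := LinearMap.ker ((g : U →ₗ[k] U) - LinearMap.id)

omit [FiniteDimensional k U] in
theorem mem_fixedOf {g : U ≃ₗ[k] U} {x : U} : x ∈ fixedOf g ↔ g x = x := by
  simp [fixedOf, sub_eq_zero]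

theorem finrank_fixedOf_lt {F : Submodule k U} {g : U ≃ₗ[k] U} (hF : ∀ y ∈ F, g y = y) {x : U}
    (hx : x ∉ F) (hgx : g x = x) : finrank k F < finrank k (fixedOf g) := by
  refine Submodule.finrank_lt_finrank_of_lt (lt_of_le_of_ne (fun y hy => mem_fixedOf.2 (hF y hy))
    fun e => hx ?_)
  rw [e]
  exact mem_fixedOf.2 hgx

theorem exists_functional {F : Submodule k U} {x : U} (hx : x ∉ F) :
    ∃ f : Module.Dual k U, (∀ y ∈ F, f y = 0) ∧ f x = 1 := by
  obtain ⟨f, hfx, hf⟩ := Submodule.exists_dual_map_eq_bot_of_notMem hx inferInstance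
  refine ⟨(f x)⁻¹ • f, fun y hy => ?_, by simp [hfx]⟩
  have : f y = 0 := by
    have := Submodule.mem_map_of_mem (f := f) hy
    rwa [hf, Submodule.mem_bot] at this
  simp [this]

/-- A group containing all transvections contains every automorphism of determinant one. -/
theorem mem_of_det_eq_one (L : Subgroup (U ≃ₗ[k] U))
    (hL : ∀ (f : Module.Dual k U) (u : U) (h : f u = 0), LinearEquiv.transvection h ∈ L)
    (g : U ≃ₗ[k] U) (hg : LinearMap.det (g : U →ₗ[k] U) = 1) : g ∈ L := by
  suffices key : ∀ n (g : U ≃ₗ[k] U), LinearMap.det (g : U →ₗ[k] U) = 1 →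
      finrank k U ≤ finrank k (fixedOf g) + n → g ∈ L from key _ g hg (Nat.le_add_left _ _)
  intro n
  induction n with
  | zero =>
    intro g _ hn
    have := Submodule.eq_top_of_finrank_eq (le_antisymm (Submodule.finrank_le (fixedOf g)) (by omega))
    rw [show g = 1 from LinearEquiv.ext fun x => mem_fixedOf.1 (this.ge trivial)]
    exact one_mem L
  | succ n ih =>
    intro g hg hn
    set F := fixedOf g with hF
    have step : ∀ e : U ≃ₗ[k] U, LinearMap.det (e : U →ₗ[k] U) = 1 → (∀ y ∈ F, e y = y) →
        ∀ x, x ∉ F → e x ∉ F ⊔ k ∙ x → e ∈ L := by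
      intro e he heF x hx hex
      have hxd : x ∉ F ⊔ k ∙ (e x - x) := by
        intro hm
        obtain ⟨y, hy, w, hw, hyw⟩ := Submodule.mem_sup.1 hm
        obtain ⟨c, rfl⟩ := Submodule.mem_span_singleton.1 hw
        have hc : c ≠ 0 := fun e' => hx (by rw [← hyw, e', zero_smul, add_zero]; exact hy)
        apply hex
        have h1 : c • (e x - x) = x - y := eq_sub_of_add_eq' hyw
        rw [show e x = x + c⁻¹ • (x - y) by rw [← h1, smul_smul, inv_mul_cancel₀ hc]; simp]
        have hx' : x ∈ F ⊔ k ∙ x := Submodule.mem_sup_right (Submodule.mem_span_singleton_self x)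
        exact add_mem hx' (Submodule.smul_mem _ _ (sub_mem hx' (Submodule.mem_sup_left hy)))
      obtain ⟨f, hf0, hf1⟩ := exists_functional hxd
      have hfd : f (e x - x) = 0 :=
        hf0 _ (Submodule.mem_sup_right (Submodule.mem_span_singleton_self _))
      set t := LinearEquiv.transvection hfd with ht
      have htF : ∀ y ∈ F, t y = y := fun y hy => by
        simp [ht, LinearMap.transvection.apply, hf0 y (Submodule.mem_sup_left hy)]
      have htx : t x = e x := by
        simp [ht, LinearMap.transvection.apply, hf1]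
      have hlt : finrank k F < finrank k (fixedOf (t⁻¹ * e)) :=
        finrank_fixedOf_lt (fun y hy => by
          rw [LinearEquiv.mul_apply, heF y hy]; exact t.symm_apply_eq.2 (htF y hy).symm) hx
          (by rw [LinearEquiv.mul_apply]; exact t.symm_apply_eq.2 htx.symm)
      have hdt : LinearMap.det (t : U →ₗ[k] U) = 1 := by
        rw [ht, LinearEquiv.transvection.coe_toLinearMap, LinearMap.transvection.det, hfd,
          add_zero]
      have hd : LinearMap.det ((t⁻¹ * e : U ≃ₗ[k] U) : U →ₗ[k] U) = 1 := by
        have h1 : LinearEquiv.det (t⁻¹ * e) = 1 := by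
          rw [map_mul, map_inv, Units.ext (show (LinearEquiv.det t : k) = (1 : kˣ) by
              rw [LinearEquiv.coe_det, hdt]; rfl),
            Units.ext (show (LinearEquiv.det e : k) = (1 : kˣ) by
              rw [LinearEquiv.coe_det, he]; rfl), inv_one, one_mul]
        rw [← LinearEquiv.coe_det, h1, Units.val_one]
      have := L.mul_mem (hL f _ hfd) (ih _ hd (by omega))
      rwa [← ht, mul_inv_cancel_left] at this
    by_cases h1 : g = 1
    · exact h1 ▸ one_mem L
    obtain ⟨x, hx⟩ : ∃ x, x ∉ F := by
      by_contra hc; push Not at hc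
      exact h1 (LinearEquiv.ext fun x => mem_fixedOf.1 (hc x))
    by_cases hgx : g x ∉ F ⊔ k ∙ x
    · exact step g hg (fun y hy => mem_fixedOf.1 hy) x hx hgx
    push Not at hgx
    by_cases htop : F ⊔ k ∙ x = ⊤
    · obtain ⟨f, hf0, hf1⟩ := exists_functional hx
      have hgt : (g : U →ₗ[k] U) = LinearMap.transvection f (g x - x) := by
        refine LinearMap.ext fun z => ?_
        obtain ⟨y, hy, w, hw, rfl⟩ := Submodule.mem_sup.1 (htop.ge (Submodule.mem_top (x := z)))
        obtain ⟨c, rfl⟩ := Submodule.mem_span_singleton.1 hw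
        simp only [LinearEquiv.coe_coe, map_add, map_smul, LinearMap.transvection.apply,
          mem_fixedOf.1 hy, hf0 y hy, hf1, smul_eq_mul, mul_one]
        module
      have hfd : f (g x - x) = 0 := by
        rw [hgt, LinearMap.transvection.det] at hg
        simpa using hg
      have : g = LinearEquiv.transvection hfd := by
        refine LinearEquiv.toLinearMap_injective ?_
        rw [LinearEquiv.transvection.coe_toLinearMap]; exact hgt
      exact this ▸ hL f _ hfd
    have hgxF : g x ∉ F := fun hm => hx (by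
      have := mem_fixedOf.1 hm
      rwa [← g.injective this])
    obtain ⟨f₀, hf0, hf1⟩ := exists_functional hgxF
    obtain ⟨w, hw, hwn⟩ : ∃ w, f₀ w = 0 ∧ w ∉ F ⊔ k ∙ x := by
      by_contra hc; push Not at hc
      refine htop (eq_top_iff.2 fun z _ => ?_)
      have h2 := hc (z - f₀ z • g x) (by simp [hf1])
      simpa using add_mem h2 (Submodule.smul_mem _ (f₀ z) hgx)
    set t₀ := LinearEquiv.transvection hw with ht₀
    have hdg : LinearMap.det ((t₀ * g : U ≃ₗ[k] U) : U →ₗ[k] U) = 1 := by
      rw [LinearEquiv.coe_toLinearMap_mul, Module.End.mul_eq_comp, LinearMap.det_comp, hg, ht₀,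
        LinearEquiv.transvection.coe_toLinearMap, LinearMap.transvection.det, hw, add_zero, one_mul]
    have hmem : t₀ * g ∈ L := by
      refine step _ hdg (fun y hy => ?_) x hx ?_
      · simp [ht₀, LinearMap.transvection.apply, mem_fixedOf.1 hy, hf0 y hy]
      · simp only [LinearEquiv.mul_apply, ht₀, LinearEquiv.transvection.apply, hf1, one_smul]
        exact fun hm => hwn (by simpa using sub_mem hm hgx)
    simpa [ht₀] using L.mul_mem (L.inv_mem (hL f₀ w hw)) hmem

/-- A group containing all symplectic transvections contains every isometry of a non-degenerate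
alternating form. -/
theorem mem_of_isometry (L : Subgroup (U ≃ₗ[k] U)) (g : U →ₗ[k] U →ₗ[k] k)
    (halt : ∀ u, g u u = 0) (hnd : ∀ u, u ≠ 0 → ∃ z, g u z ≠ 0)
    (hL : ∀ (u : U) (c : k) (h : (c • g u) u = 0), LinearEquiv.transvection h ∈ L)
    (e : U ≃ₗ[k] U) (he : ∀ x y, g (e x) (e y) = g x y) : e ∈ L := by
  have hsurj : Function.Surjective g := by
    refine (LinearMap.injective_iff_surjective_of_finrank_eq_finrank
      Subspace.dual_finrank_eq.symm).1 ((injective_iff_map_eq_zero g).2 fun u hu => ?_)
    by_contra h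
    obtain ⟨z, hz⟩ := hnd u h
    simp [hu] at hz
  have hskew : ∀ x y, g x y = -g y x := fun x y => (LinearMap.IsAlt.neg (B := g) halt y x).symm
  have hiso : ∀ (u : U) (c : k) (h : (c • g u) u = 0) (x y : U),
      g (LinearEquiv.transvection h x) (LinearEquiv.transvection h y) = g x y := by
    intro u c h x y
    simp only [LinearEquiv.transvection.apply, LinearMap.smul_apply, map_add, map_smul,
      LinearMap.add_apply, smul_eq_mul, halt, hskew x u]
    ring
  suffices key : ∀ n (e : U ≃ₗ[k] U), (∀ x y, g (e x) (e y) = g x y) →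
      finrank k U ≤ finrank k (fixedOf e) + n → e ∈ L from key _ e he (Nat.le_add_left _ _)
  intro n
  induction n with
  | zero =>
    intro e _ hn
    have := Submodule.eq_top_of_finrank_eq (le_antisymm (Submodule.finrank_le (fixedOf e)) (by omega))
    rw [show e = 1 from LinearEquiv.ext fun x => mem_fixedOf.1 (this.ge trivial)]
    exact one_mem L
  | succ n ih =>
    intro e₀ he₀ hn
    set F := fixedOf e₀ with hF
    have step : ∀ e : U ≃ₗ[k] U, (∀ x y, g (e x) (e y) = g x y) → (∀ y ∈ F, e y = y) →
        ∀ x, x ∉ F → g (e x) x ≠ 0 → e ∈ L := by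
      intro e he heF x hx hne
      have hc : ((g (e x) x)⁻¹ • g (e x - x)) (e x - x) = 0 := by simp [halt, hskew x (e x)]
      set t := LinearEquiv.transvection hc with ht
      have htF : ∀ y ∈ F, t y = y := fun y hy => by
        have : g (e x) y = g x y := by simpa [heF y hy] using he x y
        simp [ht, LinearMap.transvection.apply, this]
      have htx : t x = e x := by
        simp [ht, LinearMap.transvection.apply, halt, inv_mul_cancel₀ hne]
      have hlt : finrank k F < finrank k (fixedOf (t⁻¹ * e)) :=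
        finrank_fixedOf_lt (fun y hy => by
          rw [LinearEquiv.mul_apply, heF y hy]; exact t.symm_apply_eq.2 (htF y hy).symm) hx
          (by rw [LinearEquiv.mul_apply]; exact t.symm_apply_eq.2 htx.symm)
      have hi : ∀ a b, g ((t⁻¹ * e) a) ((t⁻¹ * e) b) = g a b := fun a b => by
        rw [← hiso _ _ hc ((t⁻¹ * e) a) ((t⁻¹ * e) b)]
        simp only [LinearEquiv.mul_apply]
        change g (t (t.symm (e a))) (t (t.symm (e b))) = _
        rw [t.apply_symm_apply, t.apply_symm_apply, he]
      have := L.mul_mem (hL _ _ hc) (ih _ hi (by omega))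
      rwa [← ht, mul_inv_cancel_left] at this
    by_cases h1 : e₀ = 1
    · exact h1 ▸ one_mem L
    obtain ⟨x, hx⟩ : ∃ x, x ∉ F := by
      by_contra hc; push Not at hc
      exact h1 (LinearEquiv.ext fun x => mem_fixedOf.1 (hc x))
    by_cases hne : g (e₀ x) x ≠ 0
    · exact step e₀ he₀ (fun y hy => mem_fixedOf.1 hy) x hx hne
    push Not at hne
    have hexF : e₀ x ∉ F := fun hm => hx (by
      have := mem_fixedOf.1 hm
      rwa [← e₀.injective this])
    obtain ⟨f₁, hf10, hf11⟩ := exists_functional hx
    obtain ⟨f₂, hf20, hf21⟩ := exists_functional hexF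
    obtain ⟨f, hf0, hfx, hfe⟩ : ∃ f : Module.Dual k U,
        (∀ y ∈ F, f y = 0) ∧ f x ≠ 0 ∧ f (e₀ x) ≠ 0 := by
      by_cases ha : f₁ (e₀ x) = 0
      · by_cases hb : f₂ x = 0
        · exact ⟨f₁ + f₂, fun y hy => by simp [hf10 y hy, hf20 y hy], by simp [hf11, hb],
            by simp [hf21, ha]⟩
        · exact ⟨f₂, hf20, hb, by simp [hf21]⟩
      · exact ⟨f₁, hf10, by simp [hf11], ha⟩
    obtain ⟨w, hw⟩ := hsurj f
    have hc : ((1 : k) • g w) w = 0 := by simp [halt]
    set t := LinearEquiv.transvection hc with ht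
    have hmem : t * e₀ ∈ L := by
      refine step _ (fun a b => ?_) (fun y hy => ?_) x hx ?_
      · rw [LinearEquiv.mul_apply, LinearEquiv.mul_apply, hiso, he₀]
      · simp [ht, LinearMap.transvection.apply, mem_fixedOf.1 hy, hw, hf0 y hy]
      · simp [ht, LinearMap.transvection.apply, hne, hskew w x, hw, hfe, hfx]
    simpa [ht] using L.mul_mem (L.inv_mem (hL w 1 hc)) hmem

end Cfsg.Agent.Lib.RootSub.McLaughlin
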