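import Cfsg.Agent.Lib.RootSub.McLaughlin.RootSys
import Cfsg.Agent.Lib.Involutions.BaerSuzuki
import Cfsg.Prelude.Def_Solvable

/-!
The transvections of a linear group over the field with `p` elements, `p` odd, without normal
`p`-subgroup form a root system.
-/

namespace Cfsg.Agent.Lib.RootSub.McLaughlin

variable {p : ℕ} [Fact p.Prime] {V : Type*} [AddCommGroup V] [Module (ZMod p) V]

/-- The pair `(v, φ)` is that of a transvection lying in `H`. -/
def RootOf (H : Subgroup (V ≃ₗ[ZMod p] V)) (v : V) (φ : Module.Dual (ZMod p) V) : Prop :=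
  φ v = 0 ∧ ∃ g ∈ H, ∀ x, g x = x + φ x • v

/-- Automorphisms given by the unipotent group of two transvection pairs. -/
def TwoStep (v w : V) (φ ψ : Module.Dual (ZMod p) V) (g : V ≃ₗ[ZMod p] V) (a b e : ZMod p) :
    Prop :=
  ∀ x, g x = x + (a * φ x + e * ψ x) • v + (b * ψ x) • w

section TwoStep

variable {v w : V} {φ ψ : Module.Dual (ZMod p) V} (h1 : φ v = 0) (h2 : ψ w = 0) (h3 : ψ v = 0)
include h1 h2 h3

theorem TwoStep.mul {g g' : V ≃ₗ[ZMod p] V} {a b e a' b' e' : ZMod p}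
    (hg : TwoStep v w φ ψ g a b e) (hg' : TwoStep v w φ ψ g' a' b' e') :
    TwoStep v w φ ψ (g * g') (a + a') (b + b') (e + e' + a * b' * φ w) := by
  intro x
  rw [LinearEquiv.mul_apply, hg' x, hg]
  simp only [map_add, map_smul, h1, h2, h3, smul_eq_mul]
  module

theorem TwoStep.inv {g : V ≃ₗ[ZMod p] V} {a b e : ZMod p} (hg : TwoStep v w φ ψ g a b e) :
    TwoStep v w φ ψ g⁻¹ (-a) (-b) (-e + a * b * φ w) := by
  intro x
  refine g.symm_apply_eq.2 ?_
  rw [hg]
  simp only [map_add, map_smul, h1, h2, h3, smul_eq_mul]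
  module

theorem TwoStep.pow {g : V ≃ₗ[ZMod p] V} {a b e : ZMod p} (hg : TwoStep v w φ ψ g a b e) :
    ∀ n : ℕ, TwoStep v w φ ψ (g ^ n) (n * a) (n * b) (n * e + (n.choose 2 : ℕ) * (a * b * φ w))
  | 0 => fun x => by simp
  | n + 1 => by
    have := TwoStep.mul h1 h2 h3 (TwoStep.pow hg n) hg
    rw [pow_succ]
    convert this using 1
    · push_cast; ring
    · push_cast; ring
    · rw [Nat.choose_succ_succ' n 1, Nat.choose_one_right]
      push_cast; ring

omit h1 h2 h3 in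
theorem TwoStep.eq_one {g : V ≃ₗ[ZMod p] V} (hg : TwoStep v w φ ψ g 0 0 0) : g = 1 :=
  LinearEquiv.ext fun x => by simpa using hg x

/-- The group of the two pairs. -/
def twoStepGroup : Subgroup (V ≃ₗ[ZMod p] V) where
  carrier := {g | ∃ a b e, TwoStep v w φ ψ g a b e}
  one_mem' := ⟨0, 0, 0, fun x => by simp⟩
  mul_mem' := fun ⟨_, _, _, hg⟩ ⟨_, _, _, hg'⟩ => ⟨_, _, _, TwoStep.mul h1 h2 h3 hg hg'⟩
  inv_mem' := fun ⟨_, _, _, hg⟩ => ⟨_, _, _, TwoStep.inv h1 h2 h3 hg⟩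

theorem isPGroup_twoStepGroup (hp : Odd p) : IsPGroup p (twoStepGroup h1 h2 h3) := by
  rintro ⟨g, a, b, e, hg⟩
  refine ⟨1, Subtype.ext ?_⟩
  rw [pow_one]
  have hp2 : 2 < p := by
    rcases hp with ⟨r, hr⟩
    have := (Fact.out : p.Prime).two_le
    omega
  have h := TwoStep.pow h1 h2 h3 hg p
  rw [(ZMod.natCast_eq_zero_iff _ _).2 ((Fact.out : p.Prime).dvd_choose_self two_ne_zero hp2),
    ZMod.natCast_self, zero_mul, zero_mul, zero_mul, zero_mul, add_zero] at h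
  exact TwoStep.eq_one h

end TwoStep

theorem RootOf.exists_opp [Finite V] (hp : Odd p) {H : Subgroup (V ≃ₗ[ZMod p] V)}
    (hO : Cfsg.pCore p ↥H = ⊥) {v : V} {φ : Module.Dual (ZMod p) V} (hr : RootOf H v φ)
    (hv : v ≠ 0) (hφ : φ ≠ 0) :
    ∃ u χ, RootOf H u χ ∧ φ u ≠ 0 ∧ χ v ≠ 0 := by
  obtain ⟨h1, g, hgH, hg⟩ := hr
  by_contra hno
  have : Finite (V ≃ₗ[ZMod p] V) := Finite.of_injective _ DFunLike.coe_injective
  set t : ↥H := ⟨g, hgH⟩
  have hstep : ∀ s : ↥H, IsPGroup p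
      ↥(Subgroup.zpowers t ⊔ (Subgroup.zpowers t).map (MulAut.conj s).toMonoidHom) := by
    intro s
    set w := (s : V ≃ₗ[ZMod p] V) v with hw
    set ψ : Module.Dual (ZMod p) V :=
      φ ∘ₗ ((s : V ≃ₗ[ZMod p] V).symm : V →ₗ[ZMod p] V) with hψ
    have hψw : ψ w = 0 := by simp [hψ, hw, h1]
    have hconj : ∀ x, ((s * t * s⁻¹ : ↥H) : V ≃ₗ[ZMod p] V) x = x + ψ x • w := fun x => by
      change (s : V ≃ₗ[ZMod p] V) (g ((s : V ≃ₗ[ZMod p] V).symm x)) = _
      simp [hg, hψ, hw]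
    obtain ⟨Q, hQ, hQ1, hQ2⟩ : ∃ Q : Subgroup (V ≃ₗ[ZMod p] V), IsPGroup p Q ∧ g ∈ Q ∧
        ((s * t * s⁻¹ : ↥H) : V ≃ₗ[ZMod p] V) ∈ Q := by
      by_cases h3 : ψ v = 0
      · exact ⟨twoStepGroup h1 hψw h3, isPGroup_twoStepGroup h1 hψw h3 hp,
          ⟨1, 0, 0, fun x => by simp [hg]⟩, ⟨0, 1, 0, fun x => by rw [hconj x]; simp⟩⟩
      · have h4 : φ w = 0 := by
          by_contra h5
          exact hno ⟨w, ψ, ⟨hψw, _, (s * t * s⁻¹).2, hconj⟩, h5, h3⟩
        exact ⟨twoStepGroup hψw h1 h4, isPGroup_twoStepGroup hψw h1 h4 hp,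
          ⟨0, 1, 0, fun x => by simp [hg]⟩, ⟨1, 0, 0, fun x => by rw [hconj x]; simp⟩⟩
    refine (hQ.comap_of_injective H.subtype Subtype.coe_injective).to_le (sup_le ?_ ?_)
    · exact Subgroup.zpowers_le.2 (Subgroup.mem_comap.2 hQ1)
    · rw [MonoidHom.map_zpowers, Subgroup.zpowers_le]
      exact Subgroup.mem_comap.2 hQ2
  have hX : IsPGroup p (Subgroup.zpowers t) := (hstep 1).to_le le_sup_left
  obtain ⟨N, hN, hNp, htN⟩ := Cfsg.Agent.Lib.Involutions.baer_suzuki _ hX hstep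
  have ht : t ∈ Cfsg.pCore p ↥H :=
    (le_sSup ⟨hN, hNp⟩ : N ≤ Cfsg.pCore p ↥H) (htN (Subgroup.mem_zpowers t))
  rw [hO, Subgroup.mem_bot] at ht
  have hg1 : g = 1 := congrArg Subtype.val ht
  obtain ⟨x, hx⟩ : ∃ x, φ x ≠ 0 := by
    by_contra hc; push Not at hc; exact hφ (LinearMap.ext hc)
  have := hg x
  simp [hg1, hx, hv] at this

/-- The root system of a group without normal `p`-subgroup. -/
theorem rootSys_rootOf [Finite V] (hp : Odd p) (H : Subgroup (V ≃ₗ[ZMod p] V))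
    (hO : Cfsg.pCore p ↥H = ⊥) : RootSys (Module.Dual.eval (ZMod p) V) (RootOf H) where
  pair_zero hr := hr.1
  zero_left φ := ⟨map_zero φ, 1, one_mem H, fun x => by simp⟩
  zero_right v := ⟨rfl, 1, one_mem H, fun x => by simp⟩
  add_left := by
    rintro v w φ ⟨h1, g, hg, e1⟩ ⟨h2, g', hg', e2⟩
    refine ⟨by simp [h1, h2], g * g', mul_mem hg hg', fun x => ?_⟩
    rw [LinearEquiv.mul_apply, e2, e1]
    simp only [map_add, map_smul, h2, smul_eq_mul]
    module
  add_right := by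
    rintro v φ ψ ⟨h1, g, hg, e1⟩ ⟨h2, g', hg', e2⟩
    refine ⟨by simp [h1, h2], g * g', mul_mem hg hg', fun x => ?_⟩
    rw [LinearEquiv.mul_apply, e2, e1]
    simp only [map_add, map_smul, h1, smul_eq_mul, LinearMap.add_apply]
    module
  smul_left c v φ := by
    rintro ⟨h1, g, hg, e1⟩
    refine ⟨by simp [h1], g ^ c.val, pow_mem hg _, fun x => ?_⟩
    have key : ∀ n : ℕ, (g ^ n) x = x + (n : ZMod p) • (φ x • v) := by
      intro n
      induction n with
      | zero => simp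
      | succ n ih =>
        rw [pow_succ', LinearEquiv.mul_apply, ih, e1]
        simp only [map_add, map_smul, h1, smul_eq_mul, Nat.cast_succ]
        module
    rw [key, ZMod.natCast_zmod_val]
    module
  smul_right c v φ := by
    rintro ⟨h1, g, hg, e1⟩
    refine ⟨by simp [h1], g ^ c.val, pow_mem hg _, fun x => ?_⟩
    have key : ∀ n : ℕ, (g ^ n) x = x + (n : ZMod p) • (φ x • v) := by
      intro n
      induction n with
      | zero => simp
      | succ n ih =>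
        rw [pow_succ', LinearEquiv.mul_apply, ih, e1]
        simp only [map_add, map_smul, h1, smul_eq_mul, Nat.cast_succ]
        module
    rw [key, ZMod.natCast_zmod_val, LinearMap.smul_apply, smul_eq_mul]
    module
  conj := by
    rintro v φ w ψ ⟨h1, g, hg, e1⟩ ⟨h2, g', hg', e2⟩
    simp only [Module.Dual.eval_apply]
    refine ⟨?_, g * g' * g⁻¹, mul_mem (mul_mem hg hg') (inv_mem hg), fun x => ?_⟩
    · simp only [LinearMap.sub_apply, LinearMap.smul_apply, map_add, map_smul, h1, h2, smul_eq_mul]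
      ring
    · obtain ⟨y, rfl⟩ := g.surjective x
      change g (g' (g.symm (g y))) = _
      rw [g.symm_apply_apply, e2, e1, e1 y]
      simp only [LinearMap.sub_apply, LinearMap.smul_apply, map_add, map_smul, h1, smul_eq_mul]
      module
  opp hr hv hφ := RootOf.exists_opp hp hO hr hv hφ
  sum3 := by
    rintro v₁ v₂ v₃ φ₁ φ₂ φ₃ x Δ ⟨h1, g₁, m1, e1⟩ ⟨h2, g₂, m2, e2⟩ ⟨h3, g₃, m3, e3⟩ a b c d e f
      hx hsum
    simp only [Module.Dual.eval_apply] at a b c d e f hx hsum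
    refine ⟨hx, g₁ * g₂ * g₃, mul_mem (mul_mem m1 m2) m3, fun z => ?_⟩
    refine sub_eq_zero.1 ((Module.forall_dual_apply_eq_zero_iff (ZMod p) _).1 fun ζ => ?_)
    rw [map_sub, sub_eq_zero]
    simp only [LinearEquiv.mul_apply, e1, e2, e3, map_add, map_smul, smul_eq_mul, c, e, f]
    linear_combination hsum z ζ

end Cfsg.Agent.Lib.RootSub.McLaughlin
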