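import Cfsg.Agent.Lib.RootSub.McLaughlin.Dichotomy
import Cfsg.Agent.Lib.RootSub.McLaughlin.Instance
import Cfsg.Agent.Lib.RootSub.McLaughlin.Generation

/-!
The decomposition of a group generated by transvections into its classes.
-/

namespace Cfsg.Agent.Lib.RootSub.McLaughlin

open Module

section Family

variable {k V V' : Type*} [Field k] [AddCommGroup V] [Module k V] [AddCommGroup V'] [Module k V']

/-- The pieces of a root system, one for each index. -/
structure Family (B : V →ₗ[k] V' →ₗ[k] k) (R : V → V' → Prop) {ι : Type*}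
    (U : ι → Submodule k V) (A : ι → Submodule k V') : Prop where
  left_inj : ∀ i, ∀ z ∈ U i, (∀ ζ ∈ A i, B z ζ = 0) → z = 0
  right_inj : ∀ i, ∀ ζ ∈ A i, (∀ z ∈ U i, B z ζ = 0) → ζ = 0
  axis_mem : ∀ i {z ζ}, R z ζ → z ∈ U i → z ≠ 0 → ζ ∈ A i
  orth : ∀ {i j}, i ≠ j → ∀ z ∈ U i, ∀ ζ ∈ A j, B z ζ = 0
  cover : ∀ {z ζ}, R z ζ → z ≠ 0 → ζ ≠ 0 → ∃ i, z ∈ U i ∧ ζ ∈ A i
  dichotomy : ∀ i, Piece.IsLinear B R (U i) (A i) ∨ Piece.IsSymplectic B R (U i) (A i)

theorem Family.reindex {B : V →ₗ[k] V' →ₗ[k] k} {R : V → V' → Prop} {ι κ : Type*}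
    {U : ι → Submodule k V} {A : ι → Submodule k V'} (hF : Family B R U A) (e : κ ≃ ι) :
    Family B R (fun i => U (e i)) (fun i => A (e i)) where
  left_inj i := hF.left_inj (e i)
  right_inj i := hF.right_inj (e i)
  axis_mem i := hF.axis_mem (e i)
  orth hij := hF.orth (e.injective.ne hij)
  cover hr hz hζ := by
    obtain ⟨i, h1, h2⟩ := hF.cover hr hz hζ
    exact ⟨e.symm i, by simpa using h1, by simpa using h2⟩
  dichotomy i := hF.dichotomy (e i)

/-- The classes of a root system, with one trivial piece added, form a family. -/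
theorem RootSys.exists_family [Finite V] [FiniteDimensional k V] [FiniteDimensional k V']
    {B : V →ₗ[k] V' →ₗ[k] k} {R : V → V' → Prop} (h : RootSys B R) (two : (2 : k) ≠ 0) :
    ∃ (m : ℕ) (U : Fin (m + 1) → Submodule k V) (A : Fin (m + 1) → Submodule k V'),
      Family B R U A := by
  classical
  let st : Setoid {z : V // Cen R z} :=
    ⟨fun a b => Linked B R a b, fun a => h.linked_refl a.2, fun hab => h.linked_symm hab,
      fun hab hbc => h.linked_trans hab hbc⟩
  have hφ : ∀ q : Quotient st, ∃ φ, φ ≠ 0 ∧ R (q.out : V) φ := fun q => q.out.2.2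
  choose φ hφ0 hφR using hφ
  have hcφ : ∀ q : Quotient st, Cen (fun φ v => R v φ) (φ q) := fun q =>
    ⟨hφ0 q, (q.out : V), q.out.2.1, hφR q⟩
  let U : Option (Quotient st) → Submodule k V := fun o =>
    o.elim ⊥ fun q => h.cls two q.out.2
  let A : Option (Quotient st) → Submodule k V' := fun o =>
    o.elim ⊥ fun q => h.swap.cls two (hcφ q)
  have hP := fun q : Quotient st => h.piece_cls two q.out.2 (hcφ q) (hφR q)
  have hF : Family B R U A := by
    refine ⟨?_, ?_, ?_, ?_, ?_, ?_⟩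
    · rintro (_ | q) z hz hk
      · exact (Submodule.mem_bot k).1 hz
      · exact (hP q).left_inj z hz hk
    · rintro (_ | q) ζ hζ hk
      · exact (Submodule.mem_bot k).1 hζ
      · exact (hP q).right_inj ζ hζ hk
    · rintro (_ | q) z ζ hr hz hz0
      · exact absurd ((Submodule.mem_bot k).1 hz) hz0
      · exact (hP q).axis_mem hr hz hz0
    · rintro (_ | q) (_ | q') hne z hz ζ hζ
      · exact absurd rfl hne
      · simp [(Submodule.mem_bot k).1 hz]
      · simp [(Submodule.mem_bot k).1 hζ]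
      · rcases eq_or_ne z 0 with rfl | hz0
        · simp
        refine (hP q').orth (h.linked_cen_right (hz.resolve_left hz0)) (fun hz' => hne ?_) hζ
        refine congrArg some ?_
        rw [← q.out_eq, ← q'.out_eq]
        exact Quotient.sound
          (h.linked_trans (hz.resolve_left hz0) (h.linked_symm (hz'.resolve_left hz0)))
    · intro z ζ hr hz hζ
      have hc : Cen R z := ⟨hz, ζ, hζ, hr⟩
      have hl : Linked B R ((Quotient.mk st ⟨z, hc⟩).out : V) z :=
        Quotient.exact (Quotient.mk st ⟨z, hc⟩).out_eq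
      exact ⟨some (Quotient.mk st ⟨z, hc⟩), Or.inr hl, (hP _).axis_mem hr (Or.inr hl) hz⟩
    · rintro (_ | q)
      · refine Or.inl fun z hz ζ _ _ => ?_
        rw [(Submodule.mem_bot k).1 hz]
        exact h.zero_left ζ
      · exact h.isLinear_or_isSymplectic_cls two q.out.2 (hcφ q) (hφR q)
  obtain ⟨n, ⟨e⟩⟩ := Finite.exists_equiv_fin (Option (Quotient st))
  obtain ⟨m, rfl⟩ : ∃ m, n = m + 1 := by
    rcases n with _ | m
    · exact (e none).elim0
    · exact ⟨m, rfl⟩
  exact ⟨m, _, _, hF.reindex e.symm⟩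

end Family

section Group

variable {p : ℕ} [Fact p.Prime] {V : Type*} [AddCommGroup V] [Module (ZMod p) V] [Finite V]

local notation "GV" => V ≃ₗ[ZMod p] V

variable {H : Subgroup (V ≃ₗ[ZMod p] V)} {ι : Type*} {U : ι → Submodule (ZMod p) V}
  {A : ι → Submodule (ZMod p) (Module.Dual (ZMod p) V)}

/-- The transvections of one piece. -/
def pieceGens (H : Subgroup (V ≃ₗ[ZMod p] V)) (U : ι → Submodule (ZMod p) V)
    (A : ι → Submodule (ZMod p) (Module.Dual (ZMod p) V)) (i : ι) : Set (V ≃ₗ[ZMod p] V) :=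
  {g | g ∈ H ∧ ∃ v φ, v ∈ U i ∧ φ ∈ A i ∧ φ v = 0 ∧ ∀ x, g x = x + φ x • v}

/-- The group of one piece. -/
def pieceGroup (H : Subgroup (V ≃ₗ[ZMod p] V)) (U : ι → Submodule (ZMod p) V)
    (A : ι → Submodule (ZMod p) (Module.Dual (ZMod p) V)) (i : ι) : Subgroup (V ≃ₗ[ZMod p] V) :=
  Subgroup.closure (pieceGens H U A i)

/-- The automorphisms fixing a set pointwise. -/
def fixSub (S : Set V) : Subgroup (V ≃ₗ[ZMod p] V) where
  carrier := {g | ∀ x ∈ S, g x = x}
  one_mem' _ _ := rfl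
  mul_mem' {g g'} hg hg' x hx := by
    show g (g' x) = x
    rw [hg' x hx, hg x hx]
  inv_mem' {g} hg x hx := g.symm_apply_eq.2 (hg x hx).symm

theorem pieceGroup_fix {i : ι} {g : V ≃ₗ[ZMod p] V} (hg : g ∈ pieceGroup H U A i) {x : V}
    (hx : ∀ ζ ∈ A i, ζ x = 0) : g x = x := by
  have hle : pieceGroup H U A i ≤ fixSub {x | ∀ ζ ∈ A i, ζ x = 0} := by
    refine (Subgroup.closure_le _).2 ?_
    rintro g ⟨_, v, φ, _, hφ, _, e⟩ y hy
    rw [e, hy φ hφ, zero_smul, add_zero]
  exact hle hg x hx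

theorem pieceGroup_map {i : ι} {g : V ≃ₗ[ZMod p] V} (hg : g ∈ pieceGroup H U A i) :
    (U i).map (g : V →ₗ[ZMod p] V) = U i := by
  induction hg using Subgroup.closure_induction with
  | mem g hg =>
    obtain ⟨_, v, φ, hv, _, _, e⟩ := hg
    refine Submodule.eq_of_le_of_finrank_le ?_ (le_of_eq (LinearEquiv.finrank_map_eq g _).symm)
    rintro _ ⟨x, hx, rfl⟩
    rw [LinearEquiv.coe_coe, e]
    exact add_mem hx (Submodule.smul_mem _ _ hv)
  | one => exact Submodule.map_id _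
  | mul g g' _ _ hg hg' =>
    rw [LinearEquiv.coe_toLinearMap_mul, Module.End.mul_eq_comp, Submodule.map_comp, hg', hg]
  | inv g _ hg =>
    conv_lhs => rw [← hg]
    rw [← Submodule.map_comp]
    convert Submodule.map_id _
    exact LinearMap.ext fun x => g.symm_apply_apply x

theorem pieceGroup_apply_mem {i : ι} {g : V ≃ₗ[ZMod p] V} (hg : g ∈ pieceGroup H U A i) {x : V}
    (hx : x ∈ U i) : g x ∈ U i := by
  rw [← pieceGroup_map hg]; exact Submodule.mem_map_of_mem hx

variable (hF : Family (Module.Dual.eval (ZMod p) V) (RootOf H) U A)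
include hF

theorem pieceGroup_fix_other {i j : ι} (hij : j ≠ i) {g : V ≃ₗ[ZMod p] V}
    (hg : g ∈ pieceGroup H U A i) {x : V} (hx : x ∈ U j) : g x = x :=
  pieceGroup_fix hg fun ζ hζ => hF.orth hij x hx ζ hζ

theorem pieceGroup_commute {i j : ι} (hij : i ≠ j) :
    pieceGroup H U A i ≤ Subgroup.centralizer (pieceGroup H U A j : Set GV) := by
  rw [pieceGroup, pieceGroup, Subgroup.centralizer_closure, Subgroup.closure_le]
  rintro g ⟨_, v, φ, hv, hφ, _, e⟩
  rw [SetLike.mem_coe, Subgroup.mem_centralizer_iff]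
  rintro g' ⟨_, w, ψ, hw, hψ, _, e'⟩
  refine LinearEquiv.ext fun x => ?_
  have h1 : ψ v = 0 := hF.orth hij v hv ψ hψ
  have h2 : φ w = 0 := hF.orth hij.symm w hw φ hφ
  simp only [LinearEquiv.mul_apply, e, e', map_add, map_smul, h1, h2, smul_eq_mul]
  module

theorem exists_restr {i : ι} (f : Module.Dual (ZMod p) ↥(U i)) :
    ∃ ζ ∈ A i, ∀ z : ↥(U i), ζ (z : V) = f z := by
  let res : ↥(A i) →ₗ[ZMod p] Module.Dual (ZMod p) ↥(U i) :=
    (Submodule.subtype (U i)).dualMap ∘ₗ (A i).subtype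
  let res' : ↥(U i) →ₗ[ZMod p] Module.Dual (ZMod p) ↥(A i) :=
    (A i).subtype.dualMap ∘ₗ Module.Dual.eval (ZMod p) V ∘ₗ (U i).subtype
  have hres : Function.Injective res := LinearMap.ker_eq_bot.1 (LinearMap.ker_eq_bot'.2 fun ζ hζ =>
    Subtype.ext (hF.right_inj i ζ ζ.2 fun z hz => LinearMap.congr_fun hζ ⟨z, hz⟩))
  have hres' : Function.Injective res' := LinearMap.ker_eq_bot.1 (LinearMap.ker_eq_bot'.2 fun z hz =>
    Subtype.ext (hF.left_inj i z z.2 fun ζ hζ => LinearMap.congr_fun hz ⟨ζ, hζ⟩))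
  have h1 := LinearMap.finrank_le_finrank_of_injective hres
  have h2 := LinearMap.finrank_le_finrank_of_injective hres'
  rw [Subspace.dual_finrank_eq] at h1 h2
  obtain ⟨ζ, hζ⟩ := (LinearMap.injective_iff_surjective_of_finrank_eq_finrank
    (by rw [Subspace.dual_finrank_eq]; omega)).1 hres f
  exact ⟨ζ, ζ.2, fun z => LinearMap.congr_fun hζ z⟩

theorem exists_range_eq (i : ι) :
    ∃ ρ : ↥(pieceGroup H U A i) →* (↥(U i) ≃ₗ[ZMod p] ↥(U i)),
      (∀ (g : ↥(pieceGroup H U A i)) (v : ↥(U i)), ((ρ g v : ↥(U i)) : V) =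
        (g : GV) (v : V)) ∧
      ((ρ.range : Set (↥(U i) ≃ₗ[ZMod p] ↥(U i))) =
          {f : ↥(U i) ≃ₗ[ZMod p] ↥(U i) | LinearMap.det (f : ↥(U i) →ₗ[ZMod p] ↥(U i)) = 1} ∨
        ∃ B : LinearMap.BilinForm (ZMod p) ↥(U i), B.IsAlt ∧ B.Nondegenerate ∧
          (ρ.range : Set (↥(U i) ≃ₗ[ZMod p] ↥(U i))) = {f : ↥(U i) ≃ₗ[ZMod p] ↥(U i) | ∀ x y, B (f x) (f y) = B x y}) := by
  classical
  let ρ : ↥(pieceGroup H U A i) →* (↥(U i) ≃ₗ[ZMod p] ↥(U i)) :=
    { toFun := fun g => ((g : GV).submoduleMap (U i)).trans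
        (LinearEquiv.ofEq _ _ (pieceGroup_map g.2))
      map_one' := by ext; rfl
      map_mul' := fun _ _ => by ext; rfl }
  have hρ : ∀ (g : ↥(pieceGroup H U A i)) (v : ↥(U i)),
      ((ρ g v : ↥(U i)) : V) = (g : GV) (v : V) := fun _ _ => rfl
  refine ⟨ρ, hρ, ?_⟩
  have hgen : ∀ {v : V} {φ : Module.Dual (ZMod p) V}, RootOf H v φ → v ∈ U i → φ ∈ A i →
      ∃ g : ↥(pieceGroup H U A i), ∀ x : V, (g : GV) x = x + φ x • v := by
    rintro v φ ⟨h0, g, hg, e⟩ hv hφ
    exact ⟨⟨g, Subgroup.subset_closure ⟨hg, v, φ, hv, hφ, h0, e⟩⟩, e⟩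
  have hind : ∀ (P : Subgroup (↥(U i) ≃ₗ[ZMod p] ↥(U i))),
      (∀ (g : ↥(pieceGroup H U A i)) (u : ↥(U i)) (φ : Module.Dual (ZMod p) V),
        RootOf H (u : V) φ → φ ∈ A i → (∀ x : V, (g : GV) x = x + φ x • (u : V)) → ρ g ∈ P) →
      ρ.range ≤ P := by
    rintro P hP _ ⟨⟨g, hg⟩, rfl⟩
    unfold pieceGroup at hg
    induction hg using Subgroup.closure_induction with
    | mem g hg =>
      obtain ⟨hgH, v, φ, hv, hφ, h0, e⟩ := id hg
      exact hP ⟨g, Subgroup.subset_closure hg⟩ ⟨v, hv⟩ φ ⟨h0, g, hgH, e⟩ hφ e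
    | one => exact (map_one ρ).symm ▸ P.one_mem
    | mul a b ha hb iha ihb =>
      have := P.mul_mem iha ihb
      rwa [← map_mul] at this
    | inv a ha iha =>
      have := P.inv_mem iha
      rwa [← map_inv] at this
  have htr : ∀ (g : ↥(pieceGroup H U A i)) (u : ↥(U i)) (φ : Module.Dual (ZMod p) V),
      (∀ x : V, (g : GV) x = x + φ x • (u : V)) →
      ∀ z : ↥(U i), ρ g z = z + φ (z : V) • u := fun g u φ e z => Subtype.ext (by
    rw [hρ, e]; rfl)
  rcases hF.dichotomy i with hlin | ⟨g, halt, hnd, hroot, hroot'⟩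
  · left
    refine Set.Subset.antisymm ?_ fun f hf => ?_
    · let P : Subgroup (↥(U i) ≃ₗ[ZMod p] ↥(U i)) := LinearEquiv.det.ker
      intro f hf
      have hfP : f ∈ P := hind P (fun g u φ hr _ e => by
        rw [MonoidHom.mem_ker, Units.ext_iff, LinearEquiv.coe_det]
        have : (ρ g : ↥(U i) →ₗ[ZMod p] ↥(U i)) =
            LinearMap.transvection (φ ∘ₗ (U i).subtype) u := LinearMap.ext fun z => htr g u φ e z
        rw [this, LinearMap.transvection.det]
        simp [hr.1]) hf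
      show LinearMap.det (f : ↥(U i) →ₗ[ZMod p] ↥(U i)) = 1
      rw [← LinearEquiv.coe_det, MonoidHom.mem_ker.1 hfP, Units.val_one]
    · refine mem_of_det_eq_one ρ.range (fun f' u h0 => ?_) f hf
      obtain ⟨ζ, hζ, hζf⟩ := exists_restr hF f'
      obtain ⟨g, hg⟩ := hgen (hlin u u.2 ζ hζ (by simp [hζf u, h0])) u.2 hζ
      exact ⟨g, LinearEquiv.ext fun z => by rw [htr g u ζ hg z, hζf]; rfl⟩
  · right
    have hskew : ∀ x y, g x y = -g y x := fun x y => (LinearMap.IsAlt.neg (B := g) halt y x).symm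
    refine ⟨g, halt, ⟨fun u hu => ?_, fun u hu => ?_⟩, Set.Subset.antisymm ?_ fun f hf => ?_⟩
    · by_contra h
      obtain ⟨z, hz⟩ := hnd u h
      exact hz (hu z)
    · by_contra h
      obtain ⟨z, hz⟩ := hnd u h
      exact hz (by rw [hskew, hu z, neg_zero])
    · let P : Subgroup (↥(U i) ≃ₗ[ZMod p] ↥(U i)) :=
        { carrier := {f | ∀ x y, g (f x) (f y) = g x y}
          one_mem' := fun x y => rfl
          mul_mem' := fun {a b} ha hb x y => (ha (b x) (b y)).trans (hb x y)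
          inv_mem' := fun {a} ha x y => by
            show g (a.symm x) (a.symm y) = g x y
            rw [← ha, a.apply_symm_apply, a.apply_symm_apply] }
      intro f hf
      refine hind P (fun g' u φ hr _ e => ?_) hf
      show ∀ x y, g (ρ g' x) (ρ g' y) = g x y
      intro x y
      rw [htr g' u φ e, htr g' u φ e]
      rcases eq_or_ne u 0 with rfl | hu
      · simp
      obtain ⟨c, hc⟩ := hroot' u hu φ hr
      have hc' : ∀ z : ↥(U i), φ (z : V) = c * g u z := hc
      simp only [hc', map_add, map_smul, LinearMap.add_apply, LinearMap.smul_apply, smul_eq_mul,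
        halt, hskew x u]
      ring
    · refine mem_of_isometry ρ.range g halt hnd (fun u c h0 => ?_) f hf
      obtain ⟨ζ, hζ, hr, hζf⟩ := hroot u c
      obtain ⟨g', hg⟩ := hgen hr u.2 hζ
      refine ⟨g', LinearEquiv.ext fun z => ?_⟩
      rw [htr g' u ζ hg z, show ζ (z : V) = c * g u z from hζf z]
      rfl

end Group

/-- McLaughlin's theorem over a prime field of odd order, in the form of a decomposition. -/
theorem exists_decomposition {p : ℕ} [Fact p.Prime] (hp : Odd p) {V : Type*} [AddCommGroup V]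
    [Module (ZMod p) V] [Finite V]
    (H : Subgroup (V ≃ₗ[ZMod p] V)) (T : Set (V ≃ₗ[ZMod p] V)) (hHT : H = Subgroup.closure T)
    (hT : ∀ t ∈ T, ∃ v φ, v ≠ 0 ∧ φ ≠ 0 ∧ RootOf H v φ ∧ ∀ x, t x = x + φ x • v)
    (hOp : Cfsg.pCore p ↥H = ⊥) :
    ∃ (n : ℕ) (W : Fin (n + 1) → Submodule (ZMod p) V) (K : Fin n → Subgroup (V ≃ₗ[ZMod p] V)),
      1 ≤ n ∧ DirectSum.IsInternal W ∧
      (∀ h ∈ H, ∀ i, (W i).map (h : V →ₗ[ZMod p] V) = W i) ∧
      (∀ j, K j ≤ H ∧ ((K j).subgroupOf H).Normal) ∧ ⨆ j, K j = H ∧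
      (∀ j, K j ⊓ (⨆ j' ∈ {j' : Fin n | j' ≠ j}, K j') = ⊥) ∧
      (∀ j j', j ≠ j' → ∀ a ∈ K j, ∀ b ∈ K j', a * b = b * a) ∧
      (∀ j, ∀ h ∈ K j, ∀ i : Fin (n + 1), i ≠ j.succ → ∀ v ∈ W i, h v = v) ∧
      (∀ j, ∃ ρ : ↥(K j) →* (↥(W j.succ) ≃ₗ[ZMod p] ↥(W j.succ)),
        (∀ (h : ↥(K j)) (v : ↥(W j.succ)),
          ((ρ h v : ↥(W j.succ)) : V) = (h : V ≃ₗ[ZMod p] V) (v : V)) ∧
        ((ρ.range : Set (↥(W j.succ) ≃ₗ[ZMod p] ↥(W j.succ))) =
            {f : ↥(W j.succ) ≃ₗ[ZMod p] ↥(W j.succ) |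
              LinearMap.det (f : ↥(W j.succ) →ₗ[ZMod p] ↥(W j.succ)) = 1} ∨
          ∃ B : LinearMap.BilinForm (ZMod p) ↥(W j.succ), B.IsAlt ∧ B.Nondegenerate ∧
            (ρ.range : Set (↥(W j.succ) ≃ₗ[ZMod p] ↥(W j.succ))) =
              {f : ↥(W j.succ) ≃ₗ[ZMod p] ↥(W j.succ) | ∀ x y, B (f x) (f y) = B x y})) := by
  classical
  have two : (2 : ZMod p) ≠ 0 := by
    intro e
    have h2 : ((2 : ℕ) : ZMod p) = 0 := by exact_mod_cast e
    have := (Nat.prime_dvd_prime_iff_eq (Fact.out : p.Prime) Nat.prime_two).1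
      ((ZMod.natCast_eq_zero_iff _ _).1 h2)
    subst this
    exact absurd hp (by decide)
  have hR := rootSys_rootOf hp H hOp
  obtain ⟨m, U, A, hF⟩ := hR.exists_family two
  let W₀ : Submodule (ZMod p) V := ⨅ j, (A j).dualCoannihilator
  let W : Fin (m + 1 + 1) → Submodule (ZMod p) V := Fin.cases W₀ U
  have hW0 : ∀ {x}, x ∈ W 0 ↔ ∀ j, ∀ ζ ∈ A j, ζ x = 0 := fun {x} => by
    simp [W, W₀, Submodule.mem_dualCoannihilator]
  let K : Fin (m + 1) → Subgroup (V ≃ₗ[ZMod p] V) := fun j => pieceGroup H U A j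
  have hKH : ∀ j, K j ≤ H := fun j => (Subgroup.closure_le _).2 fun g hg => hg.1
  have hsup : ⨆ j, K j = H := by
    refine le_antisymm (iSup_le hKH) ?_
    refine hHT.trans_le ((Subgroup.closure_le _).2 fun t ht => ?_)
    obtain ⟨v, φ, hv, hφ, hr, e⟩ := hT t ht
    obtain ⟨i, h1, h2⟩ := hF.cover hr hv hφ
    exact le_iSup K i (Subgroup.subset_closure
      ⟨hHT.symm ▸ Subgroup.subset_closure ht, v, φ, h1, h2, hr.1, e⟩)
  have hfix : ∀ j, ∀ g ∈ K j, ∀ i : Fin (m + 1 + 1), i ≠ j.succ → ∀ v ∈ W i, g v = v := by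
    intro j g hg i hi v hv
    induction i using Fin.cases with
    | zero => exact pieceGroup_fix hg (hW0.1 hv j)
    | succ i => exact pieceGroup_fix_other hF (fun e => hi (congrArg Fin.succ e)) hg hv
  have hspan : ⨆ i, W i = ⊤ := by
    refine eq_top_iff.2 fun x _ => ?_
    choose u hu using fun j : Fin (m + 1) => (show ∃ u : ↥(U j), ∀ ζ ∈ A j, ζ (u : V) = ζ x from by
      let res : ↥(U j) →ₗ[ZMod p] Module.Dual (ZMod p) ↥(A j) :=
        (A j).subtype.dualMap ∘ₗ Module.Dual.eval (ZMod p) V ∘ₗ (U j).subtype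
      let res' : ↥(A j) →ₗ[ZMod p] Module.Dual (ZMod p) ↥(U j) :=
        (U j).subtype.dualMap ∘ₗ (A j).subtype
      have hres : Function.Injective res := LinearMap.ker_eq_bot.1 (LinearMap.ker_eq_bot'.2 fun z hz =>
        Subtype.ext (hF.left_inj j z z.2 fun ζ hζ => LinearMap.congr_fun hz ⟨ζ, hζ⟩))
      have hres' : Function.Injective res' := LinearMap.ker_eq_bot.1 (LinearMap.ker_eq_bot'.2 fun ζ hζ =>
        Subtype.ext (hF.right_inj j ζ ζ.2 fun z hz => LinearMap.congr_fun hζ ⟨z, hz⟩))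
      have h1 := LinearMap.finrank_le_finrank_of_injective hres
      have h2 := LinearMap.finrank_le_finrank_of_injective hres'
      rw [Subspace.dual_finrank_eq] at h1 h2
      obtain ⟨u, hu⟩ := (LinearMap.injective_iff_surjective_of_finrank_eq_finrank
        (by rw [Subspace.dual_finrank_eq]; omega)).1 hres
        ((A j).subtype.dualMap (Module.Dual.eval (ZMod p) V x))
      exact ⟨u, fun ζ hζ => LinearMap.congr_fun hu ⟨ζ, hζ⟩⟩)
    have hrest : x - ∑ j, (u j : V) ∈ W 0 := by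
      refine hW0.2 fun j ζ hζ => ?_
      rw [map_sub, map_sum, Finset.sum_eq_single j, hu j ζ hζ, sub_self]
      · exact fun i _ hij => hF.orth hij _ (u i).2 ζ hζ
      · exact fun h => absurd (Finset.mem_univ j) h
    rw [← sub_add_cancel x (∑ j, (u j : V))]
    exact add_mem (le_iSup W 0 hrest)
      (sum_mem fun j _ => le_iSup W j.succ (u j).2)
  have hzero : ∀ x ∈ W 0, ∀ u : Fin (m + 1) → V, (∀ j, u j ∈ U j) → x + ∑ j, u j = 0 →
      x = 0 ∧ ∀ j, u j = 0 := by
    intro x hx u hu he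
    have hu0 : ∀ j, u j = 0 := fun j => hF.left_inj j _ (hu j) fun ζ hζ => by
      show ζ (u j) = 0
      have := congrArg ζ he
      rw [map_add, hW0.1 hx j ζ hζ, map_sum, Finset.sum_eq_single j
        (fun i _ hij => show ζ (u i) = 0 from hF.orth hij _ (hu i) ζ hζ)
        (fun h => absurd (Finset.mem_univ j) h), zero_add, map_zero] at this
      exact this
    exact ⟨by simpa [hu0] using he, hu0⟩
  have hind : iSupIndep W := by
    rw [iSupIndep_iff_finsetSum_eq_zero_imp_eq_zero]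
    intro s v hv he
    let v' : Fin (m + 1 + 1) → V := fun i => if i ∈ s then v i else 0
    have hv' : ∀ i, v' i ∈ W i := fun i => by
      by_cases hi : i ∈ s
      · simpa [v', hi] using hv i hi
      · simp [v', hi]
    have he' : v' 0 + ∑ j : Fin (m + 1), v' j.succ = 0 := by
      rw [← Fin.sum_univ_succ, ← he]
      simp [v', Finset.sum_ite_mem]
    obtain ⟨h0, hs⟩ := hzero _ (hv' 0) _ (fun j => hv' j.succ) he'
    intro i hi
    have : v' i = 0 := by
      induction i using Fin.cases with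
      | zero => exact h0
      | succ i => exact hs i
    simpa [v', hi] using this
  have hnorm : ∀ j, H ≤ Subgroup.normalizer (K j : Set (V ≃ₗ[ZMod p] V)) := by
    intro j
    rw [← hsup]
    refine iSup_le fun i => ?_
    rcases eq_or_ne i j with rfl | hij
    · exact Subgroup.le_normalizer
    · exact (pieceGroup_commute hF hij).trans (Subgroup.centralizer_le_normalizer _)
  refine ⟨m + 1, W, K, Nat.le_add_left 1 m,
    (DirectSum.isInternal_submodule_iff_iSupIndep_and_iSup_eq_top W).2 ⟨hind, hspan⟩, ?_,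
    fun j => ⟨hKH j, Subgroup.normal_subgroupOf_of_le_normalizer (hnorm j)⟩, hsup, ?_, ?_, hfix,
    fun j => exists_range_eq hF j⟩
  · intro g hg i
    refine Submodule.eq_of_le_of_finrank_le ?_ (le_of_eq (LinearEquiv.finrank_map_eq g _).symm)
    have hmem : ∀ g ∈ H, ∀ x ∈ W i, g x ∈ W i := by
      intro g hg
      rw [← hsup] at hg
      induction hg using Subgroup.iSup_induction' with
      | hp j g hg =>
        intro x hx
        rcases eq_or_ne i j.succ with rfl | hi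
        · exact pieceGroup_apply_mem hg hx
        · rwa [hfix j g hg i hi x hx]
      | h1 => exact fun x hx => hx
      | hmul a b _ _ ha hb => exact fun x hx => ha _ (hb x hx)
    rintro _ ⟨x, hx, rfl⟩
    exact hmem g hg x hx
  · intro j
    refine eq_bot_iff.2 fun g ⟨hg1, hg2⟩ => ?_
    rw [Subgroup.mem_bot]
    have hle : (⨆ j' ∈ {j' : Fin (m + 1) | j' ≠ j}, K j') ≤ fixSub (U j : Set V) :=
      iSup₂_le fun i hi g hg x hx => pieceGroup_fix_other hF (Ne.symm hi) hg hx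
    have hall : ∀ i, W i ≤ fixedOf g := by
      intro i x hx
      rw [mem_fixedOf]
      rcases eq_or_ne i j.succ with rfl | hi
      · exact hle hg2 x hx
      · exact hfix j g hg1 i hi x hx
    exact LinearEquiv.ext fun x => mem_fixedOf.1 (iSup_le hall (hspan.ge Submodule.mem_top))
  · intro j j' hne a ha b hb
    exact (Subgroup.mem_centralizer_iff.1 (pieceGroup_commute hF hne ha) b hb).symm

end Cfsg.Agent.Lib.RootSub.McLaughlin
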