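import Cfsg.Agent.Lib.RootSub.McLaughlin.Classes

/-!
Within one class of a root system either every incident centre-axis pair is a root, or the roots
are the pairs given by a non-degenerate alternating form.
-/

namespace Cfsg.Agent.Lib.RootSub.McLaughlin

open Module

variable {k V V' : Type*} [Field k] [AddCommGroup V] [Module k V] [AddCommGroup V'] [Module k V']

/-- A space of centres paired with its space of axes, closed under the roots. -/
structure Piece (B : V →ₗ[k] V' →ₗ[k] k) (R : V → V' → Prop) (U : Submodule k V)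
    (A : Submodule k V') : Prop where
  axis_mem : ∀ {z ζ}, R z ζ → z ∈ U → z ≠ 0 → ζ ∈ A
  centre_mem : ∀ {z ζ}, R z ζ → ζ ∈ A → ζ ≠ 0 → z ∈ U
  left_inj : ∀ z ∈ U, (∀ ζ ∈ A, B z ζ = 0) → z = 0
  right_inj : ∀ ζ ∈ A, (∀ z ∈ U, B z ζ = 0) → ζ = 0
  orth : ∀ {z ζ}, Cen R z → z ∉ U → ζ ∈ A → B z ζ = 0

variable {B : V →ₗ[k] V' →ₗ[k] k} {R : V → V' → Prop}

/-- All incident pairs are roots. -/
def Piece.IsLinear (B : V →ₗ[k] V' →ₗ[k] k) (R : V → V' → Prop) (U : Submodule k V)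
    (A : Submodule k V') : Prop :=
  ∀ z ∈ U, ∀ ζ ∈ A, B z ζ = 0 → R z ζ

/-- The roots are those of an alternating form. -/
def Piece.IsSymplectic (B : V →ₗ[k] V' →ₗ[k] k) (R : V → V' → Prop) (U : Submodule k V)
    (A : Submodule k V') : Prop :=
  ∃ g : ↥U →ₗ[k] ↥U →ₗ[k] k, (∀ u, g u u = 0) ∧ (∀ u, u ≠ 0 → ∃ z, g u z ≠ 0) ∧
    (∀ (u : ↥U) (c : k), ∃ ζ ∈ A, R u ζ ∧ ∀ z : ↥U, B z ζ = c * g u z) ∧
    ∀ u : ↥U, u ≠ 0 → ∀ ζ, R u ζ → ∃ c : k, ∀ z : ↥U, B z ζ = c * g u z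

namespace RootSys

variable (h : RootSys B R) [FiniteDimensional k V] [FiniteDimensional k V']
include h

theorem piece_cls (two : (2 : k) ≠ 0) {v : V} {φ : V'} (hv : Cen R v)
    (hφ : Cen (fun φ v => R v φ) φ) (hr : R v φ) :
    Piece B R (h.cls two hv) (h.swap.cls two hφ) where
  axis_mem {z ζ} hz hU hz0 := by
    by_cases hζ : ζ = 0
    · exact Or.inl hζ
    exact Or.inr ((h.linked_swap_iff hr hz hv.1 hz0 hφ.1 hζ).2 (hU.resolve_left hz0))
  centre_mem {z ζ} hz hA hζ := by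
    by_cases hz0 : z = 0
    · exact Or.inl hz0
    exact Or.inr ((h.linked_swap_iff hr hz hv.1 hz0 hφ.1 hζ).1 (hA.resolve_left hζ))
  left_inj z hz hkill := by
    by_contra hz0
    have hl := hz.resolve_left hz0
    obtain ⟨u, hzu, huz⟩ := h.exists_adj (h.linked_cen_right hl)
    obtain ⟨hu, _, χ, hχ, hne⟩ := huz
    have hζ : χ ≠ 0 := fun e => hne (by simp [e])
    exact hne (hkill χ (Or.inr ((h.linked_swap_iff hr hχ hv.1 hu.1 hφ.1 hζ).2
      (h.linked_adj hl hzu))))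
  right_inj ζ hζ hkill := by
    by_contra hζ0
    obtain ⟨z, hz0, hz⟩ := (h.swap.linked_cen_right (hζ.resolve_left hζ0)).2
    obtain ⟨u, χ, hu, h1, h2⟩ := h.opp hz hz0 hζ0
    have hlz := (h.linked_swap_iff hr hz hv.1 hz0 hφ.1 hζ0).1 (hζ.resolve_left hζ0)
    exact h1 (hkill u (Or.inr (h.linked_adj hlz
      ⟨⟨hz0, ζ, hζ0, hz⟩, cen_of_apply hu h1 h2, ζ, hz, h1⟩)))
  orth {z ζ} hz hzU hA := by
    by_contra hne
    have hζ0 : ζ ≠ 0 := fun e => hne (by simp [e])
    obtain ⟨y, hy0, hy⟩ := (h.swap.linked_cen_right (hA.resolve_left hζ0)).2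
    have hly := (h.linked_swap_iff hr hy hv.1 hy0 hφ.1 hζ0).1 (hA.resolve_left hζ0)
    exact hzU (Or.inr (h.linked_adj hly ⟨⟨hy0, ζ, hζ0, hy⟩, hz, ζ, hy, hne⟩))

theorem isLinear_cls (two : (2 : k) ≠ 0) {v : V} {φ : V'} (hv : Cen R v)
    (hφ : Cen (fun φ v => R v φ) φ) (hr : R v φ) (hd : 2 ≤ finrank k (h.axes v)) :
    Piece.IsLinear B R (h.cls two hv) (h.swap.cls two hφ) := by
  have hP := h.piece_cls two hv hφ hr
  intro z hz ζ hζ hzζ
  rcases eq_or_ne ζ 0 with rfl | hζ0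
  · exact h.zero_right z
  obtain ⟨y, hy0, hy⟩ := (h.swap.linked_cen_right (hζ.resolve_left hζ0)).2
  have hyU : y ∈ h.cls two hv := hP.centre_mem hy hζ hζ0
  obtain ⟨θ, hθ, hθs⟩ : ∃ θ ∈ h.axes y, θ ∉ k ∙ ζ := by
    by_contra hcon
    push Not at hcon
    have h1 := Submodule.finrank_mono (show h.axes y ≤ k ∙ ζ from hcon)
    rw [← h.finrank_axes_eq_of_linked (hyU.resolve_left hy0), finrank_span_singleton hζ0] at h1
    omega
  have hθA := hP.axis_mem hθ hyU hy0
  obtain ⟨z₀, hz₀, hz₀ζ, hz₀θ⟩ : ∃ z₀ ∈ h.cls two hv, B z₀ ζ = 0 ∧ B z₀ θ ≠ 0 := by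
    by_contra hcon
    push Not at hcon
    obtain ⟨u, hu, hu1⟩ : ∃ u ∈ h.cls two hv, B u ζ ≠ 0 := by
      by_contra h2; push Not at h2; exact hζ0 (hP.right_inj ζ hζ h2)
    refine hθs (Submodule.mem_span_singleton.2 ⟨B u θ / B u ζ, ?_⟩)
    refine (sub_eq_zero.1 (hP.right_inj _ ((h.swap.cls two hφ).sub_mem hθA
      ((h.swap.cls two hφ).smul_mem _ hζ)) fun x hx => ?_)).symm
    have := hcon (x - (B x ζ / B u ζ) • u) (sub_mem hx (Submodule.smul_mem _ _ hu))
      (by simp [div_mul_cancel₀ _ hu1])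
    simp only [map_sub, map_smul, LinearMap.sub_apply, LinearMap.smul_apply, smul_eq_mul] at this
    simp only [map_sub, map_smul, smul_eq_mul]
    field_simp at this ⊢
    linear_combination this
  have claim : ∀ x ∈ h.cls two hv, B x ζ = 0 → B x θ ≠ 0 → R x ζ := by
    intro x hx hxζ hxθ
    have hx0 : x ≠ 0 := fun e => hxθ (by simp [e])
    have hxy : Adj B R y x :=
      ⟨⟨hy0, ζ, hζ0, hy⟩, h.linked_cen_right (hx.resolve_left hx0), θ, hθ, hxθ⟩
    obtain ⟨_, _, θ', hθ', hne⟩ := h.adj_symm hxy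
    exact h.comm hθ' hy hne hxζ
  by_cases hzθ : B z θ = 0
  · have h1 := claim (z + z₀) (add_mem hz hz₀) (by simp [hzζ, hz₀ζ]) (by simpa [hzθ] using hz₀θ)
    simpa using h.add_left h1 (h.neg_left (claim z₀ hz₀ hz₀ζ hz₀θ))
  · exact claim z hz hzζ hzθ

theorem isSymplectic_cls (two : (2 : k) ≠ 0) {v : V} {φ : V'} (hv : Cen R v)
    (hφ : Cen (fun φ v => R v φ) φ) (hr : R v φ) (hd : finrank k (h.axes v) ≤ 1) :
    Piece.IsSymplectic B R (h.cls two hv) (h.swap.cls two hφ) := by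
  classical
  have hP := h.piece_cls two hv hφ hr
  set U := h.cls two hv
  set A := h.swap.cls two hφ
  have hcen : ∀ z ∈ U, z ≠ 0 → Cen R z := fun z hz hz0 =>
    h.linked_cen_right (hz.resolve_left hz0)
  have hone : ∀ z ∈ U, z ≠ 0 → ∀ a b, R z a → R z b → a ≠ 0 → ∃ c : k, b = c • a := by
    intro z hz hz0 a b ha hb ha0
    have h1 : k ∙ a = h.axes z := by
      refine Submodule.eq_of_le_of_finrank_le
        ((Submodule.span_singleton_le_iff_mem _ _).2 ha) ?_
      rw [finrank_span_singleton ha0, ← h.finrank_axes_eq_of_linked (hz.resolve_left hz0)]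
      exact hd
    obtain ⟨c, hc⟩ := Submodule.mem_span_singleton.1 (h1.ge hb)
    exact ⟨c, hc.symm⟩
  have hvU : v ∈ U := Or.inr (h.linked_refl hv)
  have hφA : φ ∈ A := Or.inr (h.swap.linked_refl hφ)
  obtain ⟨y₀, hy₀U, hy₀⟩ : ∃ y ∈ U, B y φ ≠ 0 := by
    by_contra h2; push Not at h2; exact hφ.1 (hP.right_inj φ hφA h2)
  have hθex : ∀ y ∈ U, B y φ ≠ 0 → ∃ η ∈ A, R y η ∧ B v η = -B y φ := by
    intro y hy hne
    have hy0 : y ≠ 0 := fun e => hne (by simp [e])
    obtain ⟨_, _, η, hη, hη1⟩ := h.adj_symm ⟨hv, hcen y hy hy0, φ, hr, hne⟩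
    refine ⟨(-B y φ / B v η) • η, A.smul_mem _ (hP.axis_mem hη hy hy0), h.smul_right _ hη, ?_⟩
    simp [div_mul_cancel₀ _ hη1]
  choose θ hθA hθR hθv using hθex
  have antisym : ∀ y (hy : y ∈ U) (hyn : B y φ ≠ 0) z (hz : z ∈ U) (hzn : B z φ ≠ 0),
      B y (θ z hz hzn) + B z (θ y hy hyn) = 0 := by
    intro y hy hyn z hz hzn
    set c := -B z (θ y hy hyn) / B z φ with hc
    have h1 := h.conj (h.smul_right (c / B y φ) hr) (hθR y hy hyn)
    rw [map_smul, smul_eq_mul, div_mul_cancel₀ _ hyn, hθv y hy hyn, smul_smul, neg_mul,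
      mul_div_cancel₀ _ hyn, neg_smul, sub_neg_eq_add] at h1
    have hy' : y + c • v ∈ U := add_mem hy (U.smul_mem c hvU)
    have hy'0 : y + c • v ≠ 0 := fun e => hyn (by
      rw [eq_neg_of_add_eq_zero_left e]; simp [h.pair_zero hr])
    have hθ'0 : θ y hy hyn + c • φ ≠ 0 := fun e => hyn (by
      simpa [h.pair_zero hr, hθv y hy hyn] using congrArg (B v) e)
    have hz0 : z ≠ 0 := fun e => hzn (by simp [e])
    have hzero : B (y + c • v) (θ z hz hzn) = 0 := by
      by_contra hne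
      obtain ⟨_, _, a, ha, hza⟩ :=
        h.adj_symm ⟨hcen z hz hz0, hcen _ hy' hy'0, θ z hz hzn, hθR z hz hzn, hne⟩
      obtain ⟨c', rfl⟩ := hone _ hy' hy'0 _ a h1 ha hθ'0
      exact hza (by simp [hc, div_mul_cancel₀ _ hzn])
    simp only [map_add, map_smul, LinearMap.add_apply, LinearMap.smul_apply, smul_eq_mul,
      hθv z hz hzn] at hzero
    have e : c * B z φ = -B z (θ y hy hyn) := div_mul_cancel₀ _ hzn
    linear_combination hzero + e
  have hspan : ∀ a : V', (∀ w ∈ U, B w φ ≠ 0 → B w a = 0) → ∀ z ∈ U, B z a = 0 := by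
    intro a ha z hz
    by_cases hzn : B z φ = 0
    · have h1 := ha (z + y₀) (add_mem hz hy₀U) (by simpa [hzn] using hy₀)
      simpa [ha y₀ hy₀U hy₀] using h1
    · exact ha z hz hzn
  have haex : ∀ u : U, ∃ a ∈ A, ∀ w (hw : w ∈ U) (hwn : B w φ ≠ 0),
      B w a = -B (u : V) (θ w hw hwn) := by
    intro u
    by_cases hun : B (u : V) φ = 0
    · have hu' : B ((u : V) + y₀) φ ≠ 0 := by simpa [hun] using hy₀
      refine ⟨θ _ (add_mem u.2 hy₀U) hu' - θ y₀ hy₀U hy₀,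
        sub_mem (hθA _ _ _) (hθA _ _ _), fun w hw hwn => ?_⟩
      have e1 := antisym _ (add_mem u.2 hy₀U) hu' w hw hwn
      simp only [map_add, LinearMap.add_apply] at e1
      rw [map_sub]
      linear_combination e1 - antisym y₀ hy₀U hy₀ w hw hwn
    · exact ⟨θ _ u.2 hun, hθA _ _ _, fun w hw hwn => by
        linear_combination antisym _ u.2 hun w hw hwn⟩
  choose α hαA hα using haex
  have huniq : ∀ (u : U), ∀ a ∈ A,
      (∀ w (hw : w ∈ U) (hwn : B w φ ≠ 0), B w a = -B (u : V) (θ w hw hwn)) → a = α u := by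
    intro u a ha hwa
    exact sub_eq_zero.1 (hP.right_inj _ (sub_mem ha (hαA u)) (hspan _ fun w hw hwn => by
      rw [map_sub, hwa w hw hwn, hα u w hw hwn, sub_self]))
  have hαadd : ∀ u u' : U, α (u + u') = α u + α u' := fun u u' =>
    (huniq _ _ (add_mem (hαA u) (hαA u')) fun w hw hwn => by
      simp [hα u w hw hwn, hα u' w hw hwn]; ring).symm
  have hαsmul : ∀ (c : k) (u : U), α (c • u) = c • α u := fun c u =>
    (huniq _ _ (A.smul_mem c (hαA u)) fun w hw hwn => by simp [hα u w hw hwn]).symm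
  have hαθ : ∀ z (hz : z ∈ U) (hzn : B z φ ≠ 0), θ z hz hzn = α ⟨z, hz⟩ := fun z hz hzn =>
    huniq _ _ (hθA z hz hzn) fun w hw hwn => by linear_combination antisym z hz hzn w hw hwn
  let g : ↥U →ₗ[k] ↥U →ₗ[k] k := LinearMap.mk₂ k (fun u z => B (z : V) (α u))
    (fun u u' z => by rw [hαadd, map_add]) (fun c u z => by rw [hαsmul, map_smul])
    (fun u z z' => by rw [Submodule.coe_add, map_add, LinearMap.add_apply])
    (fun c u z => by rw [SetLike.val_smul, map_smul, LinearMap.smul_apply])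
  have hskew : ∀ u z : U, g u z + g z u = 0 := by
    intro u z
    have base : ∀ w : U, B (w : V) φ ≠ 0 → g u w + g w u = 0 := fun w hwn => by
      simp only [g, LinearMap.mk₂_apply]
      rw [hα u _ w.2 hwn, hαθ _ w.2 hwn, neg_add_cancel]
    by_cases hzn : B (z : V) φ = 0
    · have h1 := base (z + ⟨y₀, hy₀U⟩) (by simpa [hzn] using hy₀)
      have h2 := base ⟨y₀, hy₀U⟩ hy₀
      simp only [map_add, LinearMap.add_apply] at h1
      linear_combination h1 - h2
    · exact base z hzn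
  have halt : ∀ u, g u u = 0 := fun u => by
    have := hskew u u
    rw [← two_mul] at this
    exact (mul_eq_zero.1 this).resolve_left two
  have hax : ∀ u : U, u ≠ 0 → ∀ η, R (u : V) η → η ≠ 0 →
      ∃ c : k, c ≠ 0 ∧ α u = c • η := by
    intro u hu η hη hη0
    have hu0 : (u : V) ≠ 0 := by simpa using hu
    have hηA := hP.axis_mem hη u.2 hu0
    have hiff : ∀ w ∈ U, B w φ ≠ 0 → (B w η = 0 ↔ B w (α u) = 0) := by
      intro w hw hwn
      have hw0 : w ≠ 0 := fun e => hwn (by simp [e])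
      rw [hα u w hw hwn, neg_eq_zero]
      refine ⟨fun e => by_contra fun hne => ?_, fun e => by_contra fun hne => ?_⟩
      · obtain ⟨_, _, a, ha, hwa⟩ := h.adj_symm ⟨hcen w hw hw0, hcen _ u.2 hu0, _,
          hθR w hw hwn, hne⟩
        obtain ⟨c, rfl⟩ := hone _ u.2 hu0 η a hη ha hη0
        exact hwa (by simp [e])
      · obtain ⟨_, _, a, ha, hua⟩ := h.adj_symm ⟨hcen _ u.2 hu0, hcen w hw hw0, η, hη, hne⟩
        have hne0 : θ w hw hwn ≠ 0 := fun e' => hwn (by simpa [e'] using hθv w hw hwn)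
        obtain ⟨c, rfl⟩ := hone w hw hw0 _ a (hθR w hw hwn) ha hne0
        exact hua (by simp [e])
    have hker : ∀ x ∈ U, B x η = 0 → B x (α u) = 0 := by
      intro x hx hxη
      by_cases hxn : B x φ = 0
      · by_cases hex : ∃ w₀ ∈ U, B w₀ φ ≠ 0 ∧ B w₀ η = 0
        · obtain ⟨w₀, hw₀, hw₀n, hw₀η⟩ := hex
          have h1 := (hiff (x + w₀) (add_mem hx hw₀) (by simpa [hxn] using hw₀n)).1
            (by simp [hxη, hw₀η])
          simpa [(hiff w₀ hw₀ hw₀n).1 hw₀η] using h1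
        · by_contra hne
          set w := y₀ - (B y₀ (α u) / B x (α u)) • x with hw
          have hwU : w ∈ U := sub_mem hy₀U (U.smul_mem _ hx)
          have hwn : B w φ ≠ 0 := by simpa [hw, hxn] using hy₀
          exact hex ⟨w, hwU, hwn, (hiff w hwU hwn).2 (by simp [hw, div_mul_cancel₀ _ hne])⟩
      · exact (hiff x hx hxn).1 hxη
    obtain ⟨u₁, hu₁, hu₁η⟩ : ∃ x ∈ U, B x η ≠ 0 := by
      by_contra h2; push Not at h2; exact hη0 (hP.right_inj η hηA h2)
    have heq : α u = (B u₁ (α u) / B u₁ η) • η :=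
      sub_eq_zero.1 (hP.right_inj _ (sub_mem (hαA u) (A.smul_mem _ hηA)) fun x hx => by
        have := hker (x - (B x η / B u₁ η) • u₁) (sub_mem hx (U.smul_mem _ hu₁))
          (by simp [div_mul_cancel₀ _ hu₁η])
        simp only [map_sub, map_smul, LinearMap.sub_apply, LinearMap.smul_apply,
          smul_eq_mul] at this ⊢
        field_simp at this ⊢
        linear_combination this)
    refine ⟨_, fun e => ?_, heq⟩
    rw [e, zero_smul] at heq
    exact hη0 (hP.right_inj η hηA (hspan η fun w hw hwn =>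
      (hiff w hw hwn).2 (by simp [heq])))
  have hαne : ∀ u : U, u ≠ 0 → R (u : V) (α u) ∧ α u ≠ 0 := by
    intro u hu
    obtain ⟨η, hη0, hη⟩ := (hcen _ u.2 (by simpa using hu)).2
    obtain ⟨c, hc, he⟩ := hax u hu η hη hη0
    rw [he]
    exact ⟨h.smul_right c hη, smul_ne_zero hc hη0⟩
  refine ⟨g, halt, fun u hu => ?_, fun u c => ?_, fun u hu ζ hζ => ?_⟩
  · by_contra hcon
    push Not at hcon
    exact (hαne u hu).2 (hP.right_inj _ (hαA u) fun x hx => hcon ⟨x, hx⟩)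
  · refine ⟨c • α u, A.smul_mem c (hαA u), ?_, fun z => by simp [g]⟩
    rcases eq_or_ne u 0 with rfl | hu
    · simpa using h.zero_left (c • α (0 : U))
    · exact h.smul_right c (hαne u hu).1
  · obtain ⟨c, hc⟩ := hone _ u.2 (by simpa using hu) (α u) ζ (hαne u hu).1 hζ (hαne u hu).2
    exact ⟨c, fun z => by simp [g, hc]⟩

/-- McLaughlin's dichotomy. -/
theorem isLinear_or_isSymplectic_cls (two : (2 : k) ≠ 0) {v : V} {φ : V'} (hv : Cen R v)
    (hφ : Cen (fun φ v => R v φ) φ) (hr : R v φ) :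
    Piece.IsLinear B R (h.cls two hv) (h.swap.cls two hφ) ∨
      Piece.IsSymplectic B R (h.cls two hv) (h.swap.cls two hφ) := by
  by_cases hd : 2 ≤ finrank k (h.axes v)
  · exact Or.inl (h.isLinear_cls two hv hφ hr hd)
  · exact Or.inr (h.isSymplectic_cls two hv hφ hr (by omega))

end RootSys

end Cfsg.Agent.Lib.RootSub.McLaughlin
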