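import Mathlib

/-!
Abstract systems of transvection root pairs `(v, φ)` (after McLaughlin): the adjacency of centres,
its symmetry and the classes it generates.
-/

namespace Cfsg.Agent.Lib.RootSub.McLaughlin

open Module

variable {k V V' : Type*} [Field k] [AddCommGroup V] [Module k V] [AddCommGroup V'] [Module k V']

/-- A system of root pairs: the centres and axes of the transvections in a group of linear maps
without unipotent normal subgroup, seen through the pairing `B`. -/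
structure RootSys (B : V →ₗ[k] V' →ₗ[k] k) (R : V → V' → Prop) : Prop where
  pair_zero : ∀ {v φ}, R v φ → B v φ = 0
  zero_left : ∀ φ, R 0 φ
  zero_right : ∀ v, R v 0
  add_left : ∀ {v w φ}, R v φ → R w φ → R (v + w) φ
  add_right : ∀ {v φ ψ}, R v φ → R v ψ → R v (φ + ψ)
  smul_left : ∀ (c : k) {v φ}, R v φ → R (c • v) φ
  smul_right : ∀ (c : k) {v φ}, R v φ → R v (c • φ)
  conj : ∀ {v φ w ψ}, R v φ → R w ψ → R (w + B w φ • v) (ψ - B v ψ • φ)
  opp : ∀ {v φ}, R v φ → v ≠ 0 → φ ≠ 0 → ∃ u χ, R u χ ∧ B u φ ≠ 0 ∧ B v χ ≠ 0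
  sum3 : ∀ {v₁ v₂ v₃ φ₁ φ₂ φ₃ x Δ}, R v₁ φ₁ → R v₂ φ₂ → R v₃ φ₃ →
    B v₁ φ₂ = 0 → B v₁ φ₃ = 0 → B v₂ φ₁ = 0 → B v₂ φ₃ = 0 → B v₃ φ₁ = 0 → B v₃ φ₂ = 0 →
    B x Δ = 0 →
    (∀ z ζ, B z φ₁ * B v₁ ζ + B z φ₂ * B v₂ ζ + B z φ₃ * B v₃ ζ = B z Δ * B x ζ) → R x Δ

variable (B : V →ₗ[k] V' →ₗ[k] k) (R : V → V' → Prop)

/-- `v` is the centre of a root. -/
def Cen (v : V) : Prop := v ≠ 0 ∧ ∃ φ, φ ≠ 0 ∧ R v φ

/-- An axis of `v` does not vanish at `w`. -/
def Adj (v w : V) : Prop := Cen R v ∧ Cen R w ∧ ∃ φ, R v φ ∧ B w φ ≠ 0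

/-- Two centres are in the same class. -/
def Linked (v w : V) : Prop := Adj B R v w ∨ ∃ u, Adj B R v u ∧ Adj B R u w

variable {B R}

namespace RootSys

/-- The system seen from the axes. -/
theorem swap (h : RootSys B R) : RootSys B.flip (fun φ v => R v φ) where
  pair_zero hr := h.pair_zero hr
  zero_left v := h.zero_right v
  zero_right φ := h.zero_left φ
  add_left a b := h.add_right a b
  add_right a b := h.add_left a b
  smul_left c _ _ a := h.smul_right c a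
  smul_right c _ _ a := h.smul_left c a
  conj {φ v ψ w} hv hw := by
    have := h.conj (h.smul_right (-1 : k) hv) hw
    simpa [sub_eq_add_neg] using this
  opp {φ v} hr hφ hv := by
    obtain ⟨u, χ, hu, h1, h2⟩ := h.opp hr hv hφ
    exact ⟨χ, u, hu, h2, h1⟩
  sum3 {φ₁ φ₂ φ₃ v₁ v₂ v₃ Δ x} r1 r2 r3 a b c d e f g hsum := by
    refine h.sum3 r1 r2 r3 c e a f b d g fun z ζ => ?_
    have := hsum ζ z
    simp only [LinearMap.flip_apply] at this
    linear_combination this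

variable (h : RootSys B R)
include h

theorem neg_left {v : V} {φ : V'} (hr : R v φ) : R (-v) φ := by
  simpa using h.smul_left (-1) hr

theorem of_smul_left {c : k} (hc : c ≠ 0) {v : V} {φ : V'} (hr : R (c • v) φ) : R v φ := by
  simpa [smul_smul, hc] using h.smul_left c⁻¹ hr

/-- The axes of a centre. -/
def axes (v : V) : Submodule k V' where
  carrier := {φ | R v φ}
  add_mem' := h.add_right
  zero_mem' := h.zero_right v
  smul_mem' c _ := h.smul_right c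

theorem mem_axes {v : V} {φ : V'} : φ ∈ h.axes v ↔ R v φ := Iff.rfl

/-- The commutator of two roots. -/
theorem comm {v w : V} {φ ψ : V'} (hv : R v φ) (hw : R w ψ) (h1 : B w φ ≠ 0) (h2 : B v ψ = 0) :
    R v ψ := by
  have h3 := h.conj hv hw
  rw [h2, zero_smul, sub_zero] at h3
  have h4 := h.add_left h3 (h.neg_left hw)
  rw [add_neg_cancel_comm] at h4
  exact h.of_smul_left h1 h4

omit h in
theorem finrank_inf_ker_add_one [FiniteDimensional k V'] (S : Submodule k V') (f : V' →ₗ[k] k)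
    {φ : V'} (hφ : φ ∈ S) (hf : f φ ≠ 0) :
    finrank k ↥(S ⊓ LinearMap.ker f) + 1 = finrank k S := by
  have hne : φ ∉ S ⊓ LinearMap.ker f := fun hm => hf hm.2
  have heq : (S ⊓ LinearMap.ker f) ⊔ k ∙ φ = S := by
    refine le_antisymm (sup_le inf_le_left ((Submodule.span_singleton_le_iff_mem _ _).2 hφ)) ?_
    intro x hx
    refine Submodule.mem_sup.2 ⟨x - (f x / f φ) • φ, ⟨S.sub_mem hx (S.smul_mem _ hφ), ?_⟩,
      (f x / f φ) • φ, Submodule.smul_mem _ _ (Submodule.mem_span_singleton_self φ),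
      sub_add_cancel _ _⟩
    simp [div_mul_cancel₀ _ hf]
  rw [← Submodule.finrank_sup_span_singleton hne, heq]

/-- Opposite roots have axis spaces of equal dimension. -/
theorem finrank_axes_eq_of_opp [FiniteDimensional k V'] {v u : V} {φ χ : V'} (hv : R v φ)
    (hu : R u χ) (h1 : B u φ ≠ 0) (h2 : B v χ ≠ 0) :
    finrank k (h.axes v) = finrank k (h.axes u) := by
  have e : h.axes v ⊓ LinearMap.ker (B u) = h.axes u ⊓ LinearMap.ker (B v) := by
    refine Submodule.ext fun ψ => ⟨fun hψ => ?_, fun hψ => ?_⟩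
    · exact ⟨h.comm hu hψ.1 h2 hψ.2, h.pair_zero hψ.1⟩
    · exact ⟨h.comm hv hψ.1 h1 hψ.2, h.pair_zero hψ.1⟩
  rw [← finrank_inf_ker_add_one (h.axes v) (B u) hv h1,
    ← finrank_inf_ker_add_one (h.axes u) (B v) hu h2, e]

omit h in
theorem cen_of_apply {u : V} {χ : V'} (hu : R u χ) {v : V} {φ : V'} (h1 : B u φ ≠ 0)
    (h2 : B v χ ≠ 0) : Cen R u :=
  ⟨fun e => h1 (by simp [e]), χ, fun e => h2 (by simp [e]), hu⟩

theorem exists_adj {v : V} (hv : Cen R v) : ∃ u, Adj B R v u ∧ Adj B R u v := by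
  obtain ⟨φ, hφ, hr⟩ := hv.2
  obtain ⟨u, χ, hu, h1, h2⟩ := h.opp hr hv.1 hφ
  have hcu : Cen R u := cen_of_apply hu h1 h2
  exact ⟨u, ⟨hv, hcu, φ, hr, h1⟩, hcu, hv, χ, hu, h2⟩

theorem not_adj_self (v : V) : ¬ Adj B R v v := fun ⟨_, _, _, hr, hne⟩ => hne (h.pair_zero hr)

variable [FiniteDimensional k V']

theorem adj_symm {v w : V} (hvw : Adj B R v w) : Adj B R w v := by
  obtain ⟨hv, hw, φ, hr, h1⟩ := hvw
  by_contra hno
  have hkill : ∀ ψ, R w ψ → B v ψ = 0 := fun ψ hψ => by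
    by_contra hne; exact hno ⟨hw, hv, ψ, hψ, hne⟩
  have hle : h.axes w ≤ h.axes v := fun ψ hψ => h.comm hr hψ h1 (hkill ψ hψ)
  obtain ⟨ψ, hψ0, hψ⟩ := hw.2
  obtain ⟨u, χ, hu, h2, h3⟩ := h.opp (hle hψ) hv.1 hψ0
  have h4 : B w χ ≠ 0 := fun e => h3 (hkill χ (h.comm hψ hu h2 e))
  have d1 := h.finrank_axes_eq_of_opp (hle hψ) hu h2 h3
  have d2 := h.finrank_axes_eq_of_opp hψ hu h2 h4
  have : φ ∈ h.axes w := by
    rw [Submodule.eq_of_le_of_finrank_eq hle (d2.trans d1.symm)]; exact hr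
  exact h1 (h.pair_zero this)

theorem finrank_axes_eq_of_adj {v w : V} (hvw : Adj B R v w) :
    finrank k (h.axes v) = finrank k (h.axes w) := by
  obtain ⟨_, _, ψ, hψ, h2⟩ := h.adj_symm hvw
  obtain ⟨_, _, φ, hφ, h1⟩ := hvw
  exact h.finrank_axes_eq_of_opp hφ hψ h1 h2

/-- On the line through two adjacent centres all vectors are centres. -/
theorem adj_add_smul {v w : V} (hvw : Adj B R v w) {c : k} (hc : c ≠ 0) :
    Adj B R (w + c • v) v ∧ Adj B R (w + c • v) w := by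
  obtain ⟨_, _, ψ, hψ, h2⟩ := h.adj_symm hvw
  obtain ⟨hv, hw, φ, hφ, h1⟩ := hvw
  have h3 := h.conj (h.smul_right (c / B w φ) hφ) hψ
  rw [map_smul, smul_eq_mul, div_mul_cancel₀ _ h1, smul_smul] at h3
  set θ := ψ - (B v ψ * (c / B w φ)) • φ with hθ
  have hθv : B v θ ≠ 0 := by simpa [hθ, h.pair_zero hφ] using h2
  have hθw : B w θ ≠ 0 := by
    have e : B w θ = -(B v ψ * c) := by
      simp only [hθ, map_sub, map_smul, h.pair_zero hψ, smul_eq_mul]
      field_simp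
      ring
    rw [e]
    exact neg_ne_zero.2 (mul_ne_zero h2 hc)
  have hne : w + c • v ≠ 0 := fun e => h1 (by
    rw [eq_neg_of_add_eq_zero_left e]; simp [h.pair_zero hφ])
  have hcen : Cen R (w + c • v) := ⟨hne, θ, fun e => hθv (by simp [e]), h3⟩
  exact ⟨⟨hcen, hv, θ, h3, hθv⟩, ⟨hcen, hw, θ, h3, hθw⟩⟩

theorem adj_add {v w : V} (hvw : Adj B R v w) : Adj B R (v + w) v ∧ Adj B R (v + w) w := by
  simpa [add_comm w v] using h.adj_add_smul hvw (one_ne_zero (α := k))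

omit [FiniteDimensional k V']

theorem cen_smul {v : V} (hv : Cen R v) {c : k} (hc : c ≠ 0) : Cen R (c • v) :=
  ⟨smul_ne_zero hc hv.1, hv.2.elim fun φ hφ => ⟨φ, hφ.1, h.smul_left c hφ.2⟩⟩

theorem adj_smul_left {v w : V} (hvw : Adj B R v w) {c : k} (hc : c ≠ 0) : Adj B R (c • v) w :=
  let ⟨hv, hw, φ, hr, hne⟩ := hvw
  ⟨h.cen_smul hv hc, hw, φ, h.smul_left c hr, hne⟩

variable [FiniteDimensional k V']

theorem linked_of_adj {v w : V} (hvw : Adj B R v w) : Linked B R v w := Or.inl hvw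

theorem linked_symm {v w : V} (hvw : Linked B R v w) : Linked B R w v := by
  rcases hvw with h1 | ⟨u, h1, h2⟩
  · exact Or.inl (h.adj_symm h1)
  · exact Or.inr ⟨u, h.adj_symm h2, h.adj_symm h1⟩

theorem linked_cen_left {v w : V} (hvw : Linked B R v w) : Cen R v := by
  rcases hvw with h1 | ⟨u, h1, _⟩ <;> exact h1.1

theorem linked_cen_right {v w : V} (hvw : Linked B R v w) : Cen R w :=
  h.linked_cen_left (h.linked_symm hvw)

theorem linked_refl {v : V} (hv : Cen R v) : Linked B R v v :=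
  let ⟨u, h1, h2⟩ := h.exists_adj hv
  Or.inr ⟨u, h1, h2⟩

theorem linked_adj {v w y : V} (hvw : Linked B R v w) (hwy : Adj B R w y) : Linked B R v y := by
  rcases hvw with h1 | ⟨u, h1, h2⟩
  · exact Or.inr ⟨w, h1, hwy⟩
  by_cases hvw' : Adj B R v w
  · exact Or.inr ⟨w, hvw', hwy⟩
  by_cases huy : Adj B R u y
  · exact Or.inr ⟨u, h1, huy⟩
  have hz := h.adj_add h2
  obtain ⟨hv, hu, φ, hφ, hφu⟩ := h1
  obtain ⟨hy, hw, χ, hχ, hχw⟩ := h.adj_symm hwy
  have e1 : B w φ = 0 := by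
    by_contra hne; exact hvw' ⟨hv, hw, φ, hφ, hne⟩
  have e2 : B u χ = 0 := by
    by_contra hne; exact huy (h.adj_symm ⟨hy, hu, χ, hχ, hne⟩)
  refine Or.inr ⟨u + w, ⟨hv, hz.1.1, φ, hφ, ?_⟩, h.adj_symm ⟨hy, hz.1.1, χ, hχ, ?_⟩⟩
  · simpa [e1] using hφu
  · simpa [e2] using hχw

theorem linked_trans {v w y : V} (hvw : Linked B R v w) (hwy : Linked B R w y) :
    Linked B R v y := by
  rcases hwy with h1 | ⟨u, h1, h2⟩
  · exact h.linked_adj hvw h1
  · exact h.linked_adj (h.linked_adj hvw h1) h2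

theorem finrank_axes_eq_of_linked {v w : V} (hvw : Linked B R v w) :
    finrank k (h.axes v) = finrank k (h.axes w) := by
  rcases hvw with h1 | ⟨u, h1, h2⟩
  · exact h.finrank_axes_eq_of_adj h1
  · exact (h.finrank_axes_eq_of_adj h1).trans (h.finrank_axes_eq_of_adj h2)

theorem linked_smul {v w : V} (hvw : Linked B R v w) {c : k} (hc : c ≠ 0) :
    Linked B R (c • v) w := by
  rcases hvw with h1 | ⟨u, h1, h2⟩
  · exact Or.inl (h.adj_smul_left h1 hc)
  · exact Or.inr ⟨u, h.adj_smul_left h1 hc, h2⟩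

end RootSys

end Cfsg.Agent.Lib.RootSub.McLaughlin
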